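import Cfsg.Agent.Lib.SpDeg.OrbitMain
import Cfsg.Agent.Lib.WtSpace.Basic
import Cfsg.Agent.Lib.Classical.SympSimple
import Cfsg.Agent.Lib.SUDeg.Final

/-!
The degree bound for `Sp_{2n}(q)`, `q` even: the Siegel unipotent radical, the Levi subgroup, the weights.
-/

set_option autoImplicit false
set_option linter.unusedSectionVars false
set_option linter.unusedVariables false
set_option linter.unusedSimpArgs false
set_option linter.ambiguousOpen false

namespace Cfsg.Agent.Lib.SpDeg.Main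

open Module Matrix Cfsg.Agent.Lib.SpDeg.Orbit Cfsg.Agent.Lib.SpDeg.OrbitMain Cfsg.Agent.Lib.WtSpace.Basic
open scoped _root_.Classical

universe u

variable {F : Type u} [Field F] {n : ℕ}

/-- The symmetric matrices. -/
def SymM (F : Type u) [Field F] (n : ℕ) : Submodule F (Matrix (Fin n) (Fin n) F) where
  carrier := {B | Bᵀ = B}
  add_mem' := by
    intro a b ha hb
    simp only [Set.mem_ofPred_eq, transpose_add] at *
    rw [ha, hb]
  zero_mem' := by
    simp
  smul_mem' := by
    intro c a ha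
    simp only [Set.mem_ofPred_eq, transpose_smul] at *
    rw [ha]

lemma mem_SymM {B : Matrix (Fin n) (Fin n) F} : B ∈ SymM F n ↔ Bᵀ = B := Iff.rfl

/-- The elements of the unipotent radical. -/
def UU (B : SymM F n) : Matrix.symplecticGroup (Fin n) F :=
  ⟨fromBlocks 1 B.1 0 1, by
    rw [SymplecticGroup.mem_iff, Matrix.J, fromBlocks_transpose, fromBlocks_multiply, fromBlocks_multiply]
    have h : B.1ᵀ = B.1 := B.2
    simp [h]⟩

lemma UU_coe (B : SymM F n) : ((UU B : Matrix.symplecticGroup (Fin n) F) : Matrix (Fin n ⊕ Fin n) (Fin n ⊕ Fin n) F) =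
    fromBlocks 1 B.1 0 1 := rfl

lemma UU_add (B B' : SymM F n) : UU (B + B') = UU B * UU B' := by
  apply Subtype.ext
  show fromBlocks 1 (B.1 + B'.1) 0 1 = (fromBlocks 1 B.1 0 1) * (fromBlocks 1 B'.1 0 1)
  rw [fromBlocks_multiply]
  simp [add_comm]

lemma UU_zero : UU (0 : SymM F n) = 1 := by
  apply Subtype.ext
  show fromBlocks 1 (0 : Matrix (Fin n) (Fin n) F) 0 1 = 1
  simp

/-- The Levi elements. -/
def LL (R : GL (Fin n) F) : Matrix.symplecticGroup (Fin n) F :=
  ⟨fromBlocks (R : Matrix (Fin n) (Fin n) F) 0 0 ((R⁻¹ : GL (Fin n) F) : Matrix (Fin n) (Fin n) F)ᵀ, by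
    have h1 : (R : Matrix (Fin n) (Fin n) F) * ((R⁻¹ : GL (Fin n) F) : Matrix (Fin n) (Fin n) F) = 1 := by
      rw [← Units.val_mul, mul_inv_cancel, Units.val_one]
    have h2 : ((R⁻¹ : GL (Fin n) F) : Matrix (Fin n) (Fin n) F)ᵀ * (R : Matrix (Fin n) (Fin n) F)ᵀ = 1 := by
      rw [← Matrix.transpose_mul, h1, transpose_one]
    have h1' : (R : Matrix (Fin n) (Fin n) F) * (R : Matrix (Fin n) (Fin n) F)⁻¹ = 1 := by
      rw [← Matrix.coe_units_inv]; exact h1
    have h2' : ((R : Matrix (Fin n) (Fin n) F)⁻¹)ᵀ * (R : Matrix (Fin n) (Fin n) F)ᵀ = 1 := by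
      rw [← Matrix.coe_units_inv]; exact h2
    rw [SymplecticGroup.mem_iff, Matrix.J, fromBlocks_transpose, fromBlocks_multiply, fromBlocks_multiply]
    simp [h1, h2, h1', h2']⟩

/-- The action on symmetric matrices. -/
def cS (M : Matrix (Fin n) (Fin n) F) : SymM F n →ₗ[F] SymM F n where
  toFun B := ⟨M * B.1 * Mᵀ, by
    rw [mem_SymM, transpose_mul, transpose_mul, transpose_transpose, show B.1ᵀ = B.1 from B.2, Matrix.mul_assoc]⟩
  map_add' a b := by
    apply Subtype.ext
    simp [Matrix.mul_add, Matrix.add_mul]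
  map_smul' c a := by
    apply Subtype.ext
    simp [Matrix.mul_smul, Matrix.smul_mul]

lemma cS_coe (M : Matrix (Fin n) (Fin n) F) (B : SymM F n) : (cS M B).1 = M * B.1 * Mᵀ := rfl

lemma LL_UU (R : GL (Fin n) F) (B : SymM F n) : LL R * UU B = UU (cS (R : Matrix (Fin n) (Fin n) F) B) * LL R := by
  apply Subtype.ext
  show (fromBlocks (R : Matrix (Fin n) (Fin n) F) 0 0 ((R⁻¹ : GL (Fin n) F) : Matrix (Fin n) (Fin n) F)ᵀ) * (fromBlocks 1 B.1 0 1) =
    (fromBlocks 1 ((R : Matrix (Fin n) (Fin n) F) * B.1 * (R : Matrix (Fin n) (Fin n) F)ᵀ) 0 1) *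
      (fromBlocks (R : Matrix (Fin n) (Fin n) F) 0 0 ((R⁻¹ : GL (Fin n) F) : Matrix (Fin n) (Fin n) F)ᵀ)
  have h1 : (R : Matrix (Fin n) (Fin n) F)ᵀ * ((R⁻¹ : GL (Fin n) F) : Matrix (Fin n) (Fin n) F)ᵀ = 1 := by
    rw [← Matrix.transpose_mul, ← Units.val_mul, inv_mul_cancel, Units.val_one, transpose_one]
  have h1' : (R : Matrix (Fin n) (Fin n) F)ᵀ * ((R : Matrix (Fin n) (Fin n) F)⁻¹)ᵀ = 1 := by
    rw [← Matrix.coe_units_inv]; exact h1
  rw [fromBlocks_multiply, fromBlocks_multiply]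
  simp [Matrix.mul_assoc, h1, h1']

/-- The rank one symmetric matrix of a vector. -/
def rk1 (x : Fin n → F) : SymM F n :=
  ⟨vecMulVec x x, by
    rw [mem_SymM]
    ext i j
    simp [vecMulVec_apply, mul_comm]⟩

/-- The polarisation. -/
def pl (x y : Fin n → F) : SymM F n :=
  ⟨vecMulVec x y + vecMulVec y x, by
    rw [mem_SymM]
    ext i j
    simp [vecMulVec_apply, mul_comm, add_comm]⟩

lemma cS_rk1 (M : Matrix (Fin n) (Fin n) F) (x : Fin n → F) : cS M (rk1 x) = rk1 (M *ᵥ x) := by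
  apply Subtype.ext
  show M * vecMulVec x x * Mᵀ = vecMulVec (M *ᵥ x) (M *ᵥ x)
  rw [Matrix.mul_vecMulVec, Matrix.vecMulVec_mul, Matrix.vecMul_transpose]

section Char2

variable [CharP F 2]

lemma rk1_add (x y : Fin n → F) : rk1 (x + y) = rk1 x + rk1 y + pl x y := by
  apply Subtype.ext
  show vecMulVec (x + y) (x + y) = vecMulVec x x + vecMulVec y y + (vecMulVec x y + vecMulVec y x)
  rw [add_vecMulVec, vecMulVec_add, vecMulVec_add]
  abel

/-- The quadratic form of a linear form on the symmetric matrices. -/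
def qf (f : Module.Dual F (SymM F n)) (x : Fin n → F) : F := f (rk1 x)

lemma pol_qf (f : Module.Dual F (SymM F n)) (x y : Fin n → F) : pol (qf f) x y = f (pl x y) := by
  have h2 : (2 : F) = 0 := CharTwo.two_eq_zero
  simp only [pol, qf, rk1_add, map_add]
  linear_combination (f (rk1 x) + f (rk1 y)) * h2

lemma isQ_qf (f : Module.Dual F (SymM F n)) : IsQ (qf f) where
  smul t x := by
    have : rk1 (t • x) = (t * t) • rk1 x := by
      apply Subtype.ext
      show vecMulVec (t • x) (t • x) = (t * t) • vecMulVec x x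
      rw [smul_vecMulVec, vecMulVec_smul, smul_smul]
    simp [qf, this]
  add_left x x' y := by
    simp only [pol_qf]
    rw [← map_add]
    congr 1
    apply Subtype.ext
    show vecMulVec (x + x') y + vecMulVec y (x + x') = vecMulVec x y + vecMulVec y x + (vecMulVec x' y + vecMulVec y x')
    rw [add_vecMulVec, vecMulVec_add]
    abel
  smul_left t x y := by
    simp only [pol_qf]
    rw [← smul_eq_mul, ← map_smul]
    congr 1
    apply Subtype.ext
    show vecMulVec (t • x) y + vecMulVec y (t • x) = t • (vecMulVec x y + vecMulVec y x)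
    rw [smul_vecMulVec, vecMulVec_smul, smul_add]

end Char2

section Rep

variable [Fintype F] [CharP F 2]

noncomputable instance symFintype : Fintype (SymM F n) := Fintype.ofFinite _

noncomputable instance dualFintype : Fintype (Module.Dual F (SymM F n)) :=
  have : Finite (Module.Dual F (SymM F n)) := Module.finite_of_finite F
  Fintype.ofFinite _

/-- The pairing. -/
noncomputable def pp (ψ : AddChar F ℂ) (f : Module.Dual F (SymM F n)) (B : SymM F n) : ℂ := ψ (f B)

lemma pp_pairing (ψ : AddChar F ℂ) (hψ : ψ 1 ≠ 1) : Pairing (pp (n := n) ψ) where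
  add x a b := by
    simp [pp, AddChar.map_add_eq_mul]
  zero x := by
    simp [pp]
  orth a ha := by
    obtain ⟨f1, hf1⟩ : ∃ f1 : Module.Dual F (SymM F n), f1 a = 1 := by
      by_contra hcon
      push Not at hcon
      apply ha
      rw [← Module.forall_dual_apply_eq_zero_iff F]
      intro φ
      by_contra hφ
      exact hcon ((φ a)⁻¹ • φ) (by simp [inv_mul_cancel₀ hφ])
    have h := Equiv.sum_comp (Equiv.addRight f1) (fun x => pp ψ x a)
    have h2 : ∀ x : Module.Dual F (SymM F n), pp ψ (Equiv.addRight f1 x) a = pp ψ x a * ψ 1 := by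
      intro x
      simp only [pp, Equiv.coe_addRight, LinearMap.add_apply, AddChar.map_add_eq_mul, hf1]
    simp only [h2, ← Finset.sum_mul] at h
    have h3 : (∑ x : Module.Dual F (SymM F n), pp ψ x a) * (ψ 1 - 1) = 0 := by
      linear_combination h
    exact (mul_eq_zero.mp h3).resolve_right (sub_ne_zero.mpr hψ)
  card := by
    have h1 := Module.card_eq_pow_finrank (K := F) (V := Module.Dual F (SymM F n))
    have h2 := Module.card_eq_pow_finrank (K := F) (V := SymM F n)
    rw [Subspace.dual_finrank_eq] at h1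
    rw [← h2] at h1
    convert h1

variable {V : Type*} [AddCommGroup V] [Module ℂ V] [FiniteDimensional ℂ V]
variable (ρ : Matrix.symplecticGroup (Fin n) F →* Module.End ℂ V) (ψ : AddChar F ℂ) (hψ : ψ 1 ≠ 1)

/-- The operators of the radical. -/
noncomputable def tt (B : SymM F n) : Module.End ℂ V := ρ (UU B)

lemma tt_add (B B' : SymM F n) : tt ρ (B + B') = tt ρ B * tt ρ B' := by
  simp only [tt, UU_add, map_mul]

lemma tt_zero : tt ρ (0 : SymM F n) = 1 := by
  simp only [tt, UU_zero, map_one]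

/-- The weight spaces. -/
noncomputable def WW (f : Module.Dual F (SymM F n)) : Submodule ℂ V :=
  LinearMap.range (ee (pp ψ) (tt ρ) f)

include hψ

lemma mem_WW {f : Module.Dual F (SymM F n)} {v : V} : v ∈ WW ρ ψ f ↔ ∀ B : SymM F n, ρ (UU B) v = ψ (f B) • v :=
  mem_range_ee (pp_pairing ψ hψ) (tt_add ρ) (tt_zero ρ)

lemma inj_rho (g : Matrix.symplecticGroup (Fin n) F) : Function.Injective (ρ g) := by
  have h : ∀ x, ρ g⁻¹ (ρ g x) = x := by
    intro x
    have : ρ g⁻¹ * ρ g = 1 := by rw [← map_mul, inv_mul_cancel, map_one]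
    exact LinearMap.congr_fun this x
  exact Function.LeftInverse.injective h

/-- The Levi elements permute the weight spaces. -/
lemma map_WW (R : GL (Fin n) F) {f : Module.Dual F (SymM F n)} {v : V} (hv : v ∈ WW ρ ψ f) :
    ρ (LL R⁻¹) v ∈ WW ρ ψ (f.comp (cS (R : Matrix (Fin n) (Fin n) F))) := by
  rw [mem_WW ρ ψ hψ] at hv ⊢
  intro B
  have h1 : LL R⁻¹ * UU (cS (R : Matrix (Fin n) (Fin n) F) B) = UU B * LL R⁻¹ := by
    rw [LL_UU]
    congr 2
    apply Subtype.ext
    rw [cS_coe, cS_coe]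
    have h2 : ((R⁻¹ : GL (Fin n) F) : Matrix (Fin n) (Fin n) F) * (R : Matrix (Fin n) (Fin n) F) = 1 := by
      rw [← Units.val_mul, inv_mul_cancel, Units.val_one]
    have h3 : (R : Matrix (Fin n) (Fin n) F)ᵀ * ((R⁻¹ : GL (Fin n) F) : Matrix (Fin n) (Fin n) F)ᵀ = 1 := by
      rw [← Matrix.transpose_mul, h2, transpose_one]
    simp only [Matrix.mul_assoc]
    rw [h3, Matrix.mul_one, ← Matrix.mul_assoc, h2, Matrix.one_mul]
  calc ρ (UU B) (ρ (LL R⁻¹) v) = (ρ (UU B) * ρ (LL R⁻¹)) v := rfl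
    _ = (ρ (LL R⁻¹) * ρ (UU (cS (R : Matrix (Fin n) (Fin n) F) B))) v := by rw [← map_mul, ← map_mul, h1]
    _ = ρ (LL R⁻¹) (ρ (UU (cS (R : Matrix (Fin n) (Fin n) F) B)) v) := rfl
    _ = ψ (f (cS (R : Matrix (Fin n) (Fin n) F) B)) • ρ (LL R⁻¹) v := by rw [hv, map_smul]
    _ = _ := rfl

/-- If no weight with nonzero polar form occurs, the alternating part of the radical acts trivially. -/
lemma rho_pl_eq_one (h : ∀ f : Module.Dual F (SymM F n), WW ρ ψ f ≠ ⊥ → ∀ x y, pol (qf f) x y = 0) (x y : Fin n → F) :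
    ρ (UU (pl x y)) = 1 := by
  have hs := sum_ee (τ := tt ρ) (pp_pairing ψ hψ) (tt_add ρ) (tt_zero ρ)
  have h1 : ∀ f : Module.Dual F (SymM F n), tt ρ (pl x y) * ee (pp ψ) (tt ρ) f = ee (pp ψ) (tt ρ) f := by
    intro f
    rw [tau_mul_ee (pp_pairing ψ hψ) (tt_add ρ) (tt_zero ρ)]
    by_cases hf : WW ρ ψ f = ⊥
    · have h0 : ee (pp ψ) (tt ρ) f = 0 := LinearMap.range_eq_bot.mp hf
      rw [h0, smul_zero]
    · have h2 := h f hf x y
      rw [pol_qf] at h2
      simp [pp, h2]
  calc ρ (UU (pl x y)) = tt ρ (pl x y) * ∑ f : Module.Dual F (SymM F n), ee (pp ψ) (tt ρ) f := by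
        rw [hs, mul_one]; rfl
    _ = ∑ f : Module.Dual F (SymM F n), ee (pp ψ) (tt ρ) f := by
        rw [Finset.mul_sum]
        exact Finset.sum_congr rfl fun f _ => h1 f
    _ = 1 := hs

/-- The bound from a weight with nonzero polar form. -/
lemma bound_of_weight {f : Module.Dual F (SymM F n)} (hf : WW ρ ψ f ≠ ⊥) (hp : ∃ x y, pol (qf f) x y ≠ 0) (hn : 2 ≤ n) :
    (Fintype.card F ^ n - 1) * (Fintype.card F ^ n - Fintype.card F) ≤ 2 * (Fintype.card F + 1) * finrank ℂ V := by
  let s : Finset (Module.Dual F (SymM F n)) :=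
    Finset.univ.filter (fun f' => ∃ R : GL (Fin n) F, f' = f.comp (cS (R : Matrix (Fin n) (Fin n) F)))
  have h1 : s.card * 1 ≤ finrank ℂ V := by
    apply card_mul_le (pp_pairing ψ hψ) (tt_add ρ) (tt_zero ρ) s 1
    intro x hx
    obtain ⟨R, rfl⟩ := (Finset.mem_filter.mp hx).2
    have hd1 : 1 ≤ finrank ℂ (WW ρ ψ f) := by
      rw [Nat.one_le_iff_ne_zero, Ne, Submodule.finrank_eq_zero]
      exact hf
    refine hd1.trans ?_
    exact finrank_le_of_map (inj_rho ρ ψ hψ (LL R⁻¹)) (fun v hv => map_WW ρ ψ hψ R hv)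
  rw [mul_one] at h1
  have h2 : (orb (qf f)).card ≤ s.card := by
    have hsub : orb (qf f) ⊆ s.image qf := by
      intro Q' hQ'
      obtain ⟨g, rfl⟩ := mem_orb.mp hQ'
      rw [Finset.mem_image]
      let R : GL (Fin n) F := Cfsg.Agent.Lib.Classical.MatrixBridge.glToLin.symm g
      refine ⟨f.comp (cS (R : Matrix (Fin n) (Fin n) F)), Finset.mem_filter.mpr ⟨Finset.mem_univ _, R, rfl⟩, ?_⟩
      funext x
      show f (cS (R : Matrix (Fin n) (Fin n) F) (rk1 x)) = f (rk1 (g x))
      rw [cS_rk1]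
      congr 2
      have : Cfsg.Agent.Lib.Classical.MatrixBridge.glToLin R x = g x := by
        simp [R]
      simpa using this
    exact (Finset.card_le_card hsub).trans Finset.card_image_le
  have h3 := orbit_main n hn (Fin n → F) (Module.finrank_fin_fun F) (qf f) (isQ_qf f) hp
  calc _ ≤ _ := h3
    _ ≤ _ := Nat.mul_le_mul_left _ (h2.trans h1)

end Rep

/-- **The degree bound for the symplectic groups in even characteristic.** -/
theorem final [Fintype F] (hn : 2 ≤ n) (heven : Even (Fintype.card F)) (hex : (n, Fintype.card F) ≠ (2, 2)) {k : ℕ}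
    (ρ : Representation ℂ (Matrix.symplecticGroup (Fin n) F) (Fin k → ℂ)) (hirr : ρ.IsIrreducible) (hk : 2 ≤ k) :
    (Fintype.card F ^ n - 1) * (Fintype.card F ^ n - Fintype.card F) / (2 * (Fintype.card F + 1)) ≤ k := by
  have h2 : (2 : F) = 0 := Cfsg.Agent.Lib.Classical.SympSimple.two_eq_zero_iff_even_card.mpr heven
  have : CharP F 2 := CharTwo.of_one_ne_zero_of_two_eq_zero one_ne_zero h2
  have hq2 : 2 ≤ Fintype.card F := Fintype.one_lt_card
  have hq3 : n = 2 → 3 ≤ Nat.card F := by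
    intro h
    rw [Nat.card_eq_fintype_card]
    have : Fintype.card F ≠ 2 := fun hc => hex (by rw [h, hc])
    omega
  obtain ⟨ψ, hψ⟩ := Cfsg.Agent.Lib.SUDeg.Final.exists_psi (F := F)
  have hρ := Cfsg.Agent.Lib.SUDeg.Final.exists_ne_one_of_irr ρ hirr hk
  have hsimple := Cfsg.Agent.Lib.Classical.SympSimple.isSimpleGroup_PSp (m := n) (F := F) hn hq3
  have hperf := Cfsg.Agent.Lib.Classical.SympSimple.commutator_symplecticGroup (m := n) (F := F) (by
    by_cases h : n = 2
    · exact Or.inr (Or.inl ⟨h, hq3 h⟩)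
    · exact Or.inl (by omega))
  let i0 : Fin n := ⟨0, by omega⟩
  let i1 : Fin n := ⟨1, by omega⟩
  have hi : i0 ≠ i1 := by
    intro h
    have := congrArg Fin.val h
    simp [i0, i1] at this
  let a : SymM F n := pl (Pi.single i0 1) (Pi.single i1 1)
  have hnot : UU a ∉ Subgroup.center (Matrix.symplecticGroup (Fin n) F) := by
    intro hc
    have h3 := (Cfsg.Agent.Lib.Classical.SympSimple.mem_center_symplecticGroup_iff (by omega) (UU a)).mp hc
    have h4 : UU a = 1 := by
      rcases h3 with h3 | h3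
      · exact h3
      · rw [h3]
        apply Subtype.ext
        show (-1 : Matrix (Fin n ⊕ Fin n) (Fin n ⊕ Fin n) F) = 1
        ext i j
        simp only [Matrix.neg_apply]
        exact CharTwo.neg_eq _
    have h5 := congrArg (fun A : Matrix.symplecticGroup (Fin n) F => A.1 (Sum.inl i0) (Sum.inr i1)) h4
    simp only [UU_coe] at h5
    simp [a, pl, vecMulVec_apply, hi, hi.symm] at h5
  have hex2 : ∃ f : Module.Dual F (SymM F n), WW ρ ψ f ≠ ⊥ ∧ ∃ x y, pol (qf f) x y ≠ 0 := by
    by_contra hcon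
    push Not at hcon
    have h6 := rho_pl_eq_one ρ ψ hψ (fun f hf => hcon f hf) (Pi.single i0 1) (Pi.single i1 1)
    have hK := Cfsg.Agent.Lib.WtSpace.Basic.eq_top_of_not_le_center hsimple hperf ρ.ker inferInstance (x := UU a) h6 hnot
    obtain ⟨g, hg⟩ := hρ
    apply hg
    have : g ∈ ρ.ker := by
      rw [hK]
      trivial
    exact this
  obtain ⟨f, hf, hp⟩ := hex2
  have h7 := bound_of_weight ρ ψ hψ hf hp hn
  rw [finrank_fin_fun] at h7
  exact Nat.div_le_of_le_mul h7

end Cfsg.Agent.Lib.SpDeg.Main
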