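import Cfsg.Agent.Lib.SpDeg.Main
import Cfsg.Agent.Lib.CrossChar.SL

/-!
The lower bound `(q^n - 1)/2` for the degrees of `Sp_{2n}(q)`, `q` odd.
-/

set_option autoImplicit false
set_option linter.unusedSectionVars false
set_option linter.unusedVariables false
set_option linter.unusedSimpArgs false
set_option linter.ambiguousOpen false
set_option linter.style.haveILetI false

namespace Cfsg.Agent.Lib.SpDeg.Odd

open Module Matrix Cfsg.Agent.Lib.SpDeg.Orbit Cfsg.Agent.Lib.SpDeg.Main Cfsg.Agent.Lib.WtSpace.Basic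
open scoped _root_.Classical

universe u

variable {F : Type u} [Field F] [Fintype F] {n : ℕ}

/-- The polar form. -/
def po (Q : (Fin n → F) → F) (x y : Fin n → F) : F := Q (x + y) - Q x - Q y

/-- Quadratic forms. -/
structure IsQo (Q : (Fin n → F) → F) : Prop where
  smul : ∀ (t : F) (x : Fin n → F), Q (t • x) = t * t * Q x
  add_left : ∀ x x' y, po Q (x + x') y = po Q x y + po Q x' y
  smul_left : ∀ (t : F) x y, po Q (t • x) y = t * po Q x y

lemma po_comm (Q : (Fin n → F) → F) (x y : Fin n → F) : po Q x y = po Q y x := by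
  simp only [po, add_comm x y]
  ring

section Form

variable {Q : (Fin n → F) → F} (hQ : IsQo Q)

include hQ

lemma IsQo.add_right (x y y' : Fin n → F) : po Q x (y + y') = po Q x y + po Q x y' := by
  rw [po_comm, hQ.add_left, po_comm Q y, po_comm Q y']

lemma IsQo.smul_right (t : F) (x y : Fin n → F) : po Q x (t • y) = t * po Q x y := by
  rw [po_comm, hQ.smul_left, po_comm]

lemma IsQo.add (x y : Fin n → F) : Q (x + y) = Q x + Q y + po Q x y := by
  rw [po]
  ring

lemma IsQo.po_self (x : Fin n → F) : po Q x x = 2 * Q x := by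
  have h : x + x = (2 : F) • x := by rw [two_smul]
  rw [po, h, hQ.smul]
  ring

lemma IsQo.comp (g : (Fin n → F) →ₗ[F] (Fin n → F)) : IsQo (Q ∘ g) where
  smul t x := by
    simp [hQ.smul]
  add_left x x' y := by
    have := hQ.add_left (g x) (g x') (g y)
    simpa [po] using this
  smul_left t x y := by
    have := hQ.smul_left t (g x) (g y)
    simpa [po] using this

omit hQ in
lemma po_comp (g : (Fin n → F) ≃ₗ[F] (Fin n → F)) (x y : Fin n → F) : po (Q ∘ g) x y = po Q (g x) (g y) := by
  simp [po]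

/-- The number of vectors with a given nonzero value. -/
lemma card_value_le {y : Fin n → F} (hy : Q y ≠ 0) (c : F) (h2 : (2 : F) ≠ 0) :
    (Finset.univ.filter (fun v => Q v = c)).card ≤ 2 * Fintype.card F ^ (n - 1) := by
  let W : Submodule F (Fin n → F) := Submodule.span F {y}
  have hy0 : y ≠ 0 := by
    rintro rfl
    apply hy
    have := hQ.smul 0 0
    simpa using this
  have : Fintype ((Fin n → F) ⧸ W) := Fintype.ofFinite _
  have hcard : Fintype.card ((Fin n → F) ⧸ W) = Fintype.card F ^ (n - 1) := by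
    rw [Module.card_eq_pow_finrank (K := F)]
    congr 1
    have h1 := Submodule.finrank_quotient_add_finrank W
    rw [finrank_span_singleton hy0, Module.finrank_fin_fun] at h1
    omega
  have h := Finset.card_le_mul_card_image_of_maps_to (s := Finset.univ.filter (fun v => Q v = c))
    (t := (Finset.univ : Finset ((Fin n → F) ⧸ W))) (f := fun v => Submodule.Quotient.mk v) (fun _ _ => Finset.mem_univ _) 2
    (by
      intro b _
      set T := (Finset.univ.filter (fun v => Q v = c)).filter (fun v => (Submodule.Quotient.mk v : (Fin n → F) ⧸ W) = b) with hT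
      rcases T.eq_empty_or_nonempty with h0 | ⟨v1, hv1⟩
      · rw [h0]
        simp
      obtain ⟨hv1a, hv1b⟩ := Finset.mem_filter.mp hv1
      have hv1c : Q v1 = c := (Finset.mem_filter.mp hv1a).2
      have hsub : T ⊆ {v1, v1 + (- po Q v1 y / Q y) • y} := by
        intro v hv
        obtain ⟨hva, hvb⟩ := Finset.mem_filter.mp hv
        have hvc : Q v = c := (Finset.mem_filter.mp hva).2
        have h3 : (Submodule.Quotient.mk v : (Fin n → F) ⧸ W) = Submodule.Quotient.mk v1 := by rw [hvb, hv1b]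
        rw [Submodule.Quotient.eq] at h3
        obtain ⟨t, ht⟩ := Submodule.mem_span_singleton.mp h3
        have ev : v = v1 + t • y := by
          rw [ht]
          abel
        rw [ev, hQ.add, hQ.smul, hQ.smul_right, hv1c] at hvc
        have h4 : t * (t * Q y + po Q v1 y) = 0 := by
          linear_combination hvc
        rcases mul_eq_zero.mp h4 with h5 | h5
        · simp [ev, h5]
        · have h6 : t = - po Q v1 y / Q y := by
            field_simp
            linear_combination h5
          simp [ev, h6]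
      exact (Finset.card_le_card hsub).trans Finset.card_le_two)
  rw [Finset.card_univ, hcard] at h
  exact h

end Form

section Orbit

variable (h2 : (2 : F) ≠ 0) (hn : 2 ≤ n)

include h2 hn

/-- The forms with a given value at `v`. -/
lemma card_fiber {Q : (Fin n → F) → F} (hQ : IsQo Q) {v v0 : Fin n → F} (hv : v ≠ 0) (hv0 : v0 ≠ 0) (hc : Q v0 ≠ 0) :
    Fintype.card F ^ (n - 1) ≤ ((orb Q).filter (fun Q' => Q' v = Q v0)).card := by
  obtain ⟨h, hh⟩ := Cfsg.Agent.Lib.CrossChar.SL.exists_sl_mulVec (ι := Fin n) (F := F) (by simpa using hn) hv hv0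
  have hinj : Function.Injective (Matrix.toLin' h.1) := by
    intro z z' hzz
    have hz : h.1 *ᵥ z = h.1 *ᵥ z' := hzz
    have h4 : (h⁻¹).1 * h.1 = 1 := congrArg Subtype.val (inv_mul_cancel h)
    have h5 : (h⁻¹).1 *ᵥ (h.1 *ᵥ z) = (h⁻¹).1 *ᵥ (h.1 *ᵥ z') := congrArg _ hz
    rwa [Matrix.mulVec_mulVec, Matrix.mulVec_mulVec, h4, Matrix.one_mulVec, Matrix.one_mulVec] at h5
  let g : (Fin n → F) ≃ₗ[F] (Fin n → F) := LinearEquiv.ofInjectiveEndo (Matrix.toLin' h.1) hinj
  have hg : g v = v0 := hh
  let Q1 : (Fin n → F) → F := Q ∘ g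
  have hQ1 : IsQo Q1 := hQ.comp g.toLinearMap
  have hQ1v : Q1 v = Q v0 := by
    show Q (g v) = _
    rw [hg]
  -- the functionals vanishing on `v`
  let ev : Module.Dual F (Fin n → F) →ₗ[F] F := Module.Dual.eval F (Fin n → F) v
  have hev : ∀ φ, ev φ = φ v := fun φ => rfl
  have hsurj : LinearMap.range ev = ⊤ := by
    rw [LinearMap.range_eq_top]
    intro c
    obtain ⟨φ, hφ⟩ : ∃ φ : Module.Dual F (Fin n → F), φ v ≠ 0 := by
      by_contra hcon
      push Not at hcon
      exact hv ((Module.forall_dual_apply_eq_zero_iff F v).mp hcon)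
    exact ⟨(c / φ v) • φ, by simp [hev, hφ]⟩
  have hfr : finrank F (LinearMap.ker ev) = n - 1 := by
    have h1 := LinearMap.finrank_range_add_finrank_ker ev
    rw [hsurj, finrank_top, Module.finrank_self, Subspace.dual_finrank_eq, Module.finrank_fin_fun] at h1
    omega
  have : Finite (Module.Dual F (Fin n → F)) := Module.finite_of_finite F
  have : Fintype (LinearMap.ker ev) := Fintype.ofFinite _
  have hcard : Fintype.card (LinearMap.ker ev) = Fintype.card F ^ (n - 1) := by
    rw [Module.card_eq_pow_finrank (K := F), hfr]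
  rw [← hcard, ← Finset.card_univ]
  -- the elements of the group
  let gg : LinearMap.ker ev → ((Fin n → F) ≃ₗ[F] (Fin n → F)) := fun φ =>
    { toFun := fun x => x + φ.1 x • v
      invFun := fun x => x - φ.1 x • v
      map_add' := fun x y => by
        simp only [map_add, add_smul]
        abel
      map_smul' := fun t x => by
        simp only [map_smul, smul_eq_mul, RingHom.id_apply, smul_add, mul_smul]
      left_inv := fun x => by
        have h0 : φ.1 v = 0 := φ.2
        simp [h0]
      right_inv := fun x => by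
        have h0 : φ.1 v = 0 := φ.2
        simp [h0] }
  have hgg : ∀ φ x, gg φ x = x + φ.1 x • v := fun φ x => rfl
  apply Finset.card_le_card_of_injOn (fun φ => Q1 ∘ gg φ)
  · intro φ _
    simp only [Finset.coe_filter, Set.mem_ofPred_eq]
    refine ⟨mem_orb.mpr ⟨(gg φ).trans g, rfl⟩, ?_⟩
    show Q1 (gg φ v) = _
    have h0 : φ.1 v = 0 := φ.2
    rw [hgg, h0, zero_smul, add_zero, hQ1v]
  · intro φ _ φ' _ he
    apply Subtype.ext
    apply LinearMap.ext
    intro x
    have h3 : po (Q1 ∘ gg φ) x v = po (Q1 ∘ gg φ') x v := by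
      have : Q1 ∘ gg φ = Q1 ∘ gg φ' := he
      rw [this]
    have e0 : ∀ k : LinearMap.ker ev, po (Q1 ∘ gg k) x v = po Q1 (gg k x) (gg k v) := fun k => po_comp (Q := Q1) (gg k) x v
    rw [e0, e0] at h3
    have h0 : φ.1 v = 0 := φ.2
    have h0' : φ'.1 v = 0 := φ'.2
    have e1 : gg φ v = v := by rw [hgg, h0, zero_smul, add_zero]
    have e2 : gg φ' v = v := by rw [hgg, h0', zero_smul, add_zero]
    rw [e1, e2, hgg, hgg, hQ1.add_left, hQ1.add_left, hQ1.smul_left, hQ1.smul_left, hQ1.po_self, hQ1v] at h3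
    have h4 : (φ.1 x - φ'.1 x) * (2 * Q v0) = 0 := by
      linear_combination h3
    have h5 := (mul_eq_zero.mp h4).resolve_right (mul_ne_zero h2 hc)
    exact sub_eq_zero.mp h5

/-- **The orbit bound.** -/
theorem orbit_odd {Q : (Fin n → F) → F} (hQ : IsQo Q) (hne : ∃ x, Q x ≠ 0) :
    Fintype.card F ^ n - 1 ≤ 2 * (orb Q).card := by
  obtain ⟨v0, hc⟩ := hne
  have hv0 : v0 ≠ 0 := by
    rintro rfl
    apply hc
    have := hQ.smul 0 0
    simpa using this
  set c := Q v0 with hcdef
  let Vs : Finset (Fin n → F) := Finset.univ.filter (fun v => v ≠ 0)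
  have hVs : Vs.card = Fintype.card F ^ n - 1 := by
    have e : Vs = Finset.univ.erase 0 := by
      ext x
      simp [Vs]
    rw [e, Finset.card_erase_of_mem (Finset.mem_univ _), Finset.card_univ, Fintype.card_fun, Fintype.card_fin]
  have h1 : ∀ v ∈ Vs, Fintype.card F ^ (n - 1) ≤ ((orb Q).filter (fun Q' => Q' v = c)).card := by
    intro v hv
    exact card_fiber h2 hn hQ (Finset.mem_filter.mp hv).2 hv0 hc
  have h3 : ∀ Q' ∈ orb Q, (Vs.filter (fun v => Q' v = c)).card ≤ 2 * Fintype.card F ^ (n - 1) := by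
    intro Q' hQ'
    obtain ⟨g, rfl⟩ := mem_orb.mp hQ'
    have hQ3 : IsQo (Q ∘ g) := hQ.comp g.toLinearMap
    have hy : (Q ∘ g) (g.symm v0) ≠ 0 := by
      simpa using hc
    refine le_trans (Finset.card_le_card ?_) (card_value_le hQ3 hy c h2)
    intro v hv
    exact Finset.mem_filter.mpr ⟨Finset.mem_univ _, (Finset.mem_filter.mp hv).2⟩
  have h4 := Finset.sum_card_bipartiteAbove_eq_sum_card_bipartiteBelow (s := orb Q) (t := Vs) (fun Q' v => Q' v = c)
  simp only [Finset.bipartiteAbove, Finset.bipartiteBelow] at h4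
  have hpos : 0 < Fintype.card F ^ (n - 1) := Nat.pow_pos Fintype.card_pos
  have h5 : Vs.card * Fintype.card F ^ (n - 1) ≤ (orb Q).card * (2 * Fintype.card F ^ (n - 1)) := by
    calc Vs.card * Fintype.card F ^ (n - 1) = ∑ _v ∈ Vs, Fintype.card F ^ (n - 1) := by simp
      _ ≤ ∑ v ∈ Vs, ((orb Q).filter (fun Q' => Q' v = c)).card := Finset.sum_le_sum h1
      _ = ∑ Q' ∈ orb Q, (Vs.filter (fun v => Q' v = c)).card := h4.symm
      _ ≤ ∑ _Q' ∈ orb Q, (2 * Fintype.card F ^ (n - 1)) := Finset.sum_le_sum h3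
      _ = _ := by simp
  rw [hVs] at h5
  have h6 : (Fintype.card F ^ n - 1) * Fintype.card F ^ (n - 1) ≤ (2 * (orb Q).card) * Fintype.card F ^ (n - 1) := by
    calc _ ≤ _ := h5
      _ = _ := by ring
  exact Nat.le_of_mul_le_mul_right h6 hpos

end Orbit

/-! ### Weights -/

section Weights

lemma rk1_add' (x y : Fin n → F) : rk1 (x + y) = rk1 x + rk1 y + pl x y := by
  apply Subtype.ext
  show vecMulVec (x + y) (x + y) = vecMulVec x x + vecMulVec y y + (vecMulVec x y + vecMulVec y x)
  rw [add_vecMulVec, vecMulVec_add, vecMulVec_add]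
  abel

/-- The quadratic form of a linear form. -/
def qfo (f : Module.Dual F (SymM F n)) (x : Fin n → F) : F := f (rk1 x)

lemma po_qfo (f : Module.Dual F (SymM F n)) (x y : Fin n → F) : po (qfo f) x y = f (pl x y) := by
  simp only [po, qfo, rk1_add', map_add]
  ring

lemma isQo_qfo (f : Module.Dual F (SymM F n)) : IsQo (qfo f) where
  smul t x := by
    have : rk1 (t • x) = (t * t) • rk1 x := by
      apply Subtype.ext
      show vecMulVec (t • x) (t • x) = (t * t) • vecMulVec x x
      rw [smul_vecMulVec, vecMulVec_smul, smul_smul]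
    simp [qfo, this]
  add_left x x' y := by
    simp only [po_qfo]
    rw [← map_add]
    congr 1
    apply Subtype.ext
    show vecMulVec (x + x') y + vecMulVec y (x + x') = vecMulVec x y + vecMulVec y x + (vecMulVec x' y + vecMulVec y x')
    rw [add_vecMulVec, vecMulVec_add]
    abel
  smul_left t x y := by
    simp only [po_qfo]
    rw [← smul_eq_mul, ← map_smul]
    congr 1
    apply Subtype.ext
    show vecMulVec (t • x) y + vecMulVec y (t • x) = t • (vecMulVec x y + vecMulVec y x)
    rw [smul_vecMulVec, vecMulVec_smul, smul_add]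

lemma exists_qfo_ne (h2 : (2 : F) ≠ 0) {f : Module.Dual F (SymM F n)} (hf : f ≠ 0) : ∃ x, qfo f x ≠ 0 := by
  by_contra hcon
  push Not at hcon
  apply hf
  apply LinearMap.ext
  intro B
  have h1 : ∀ x y, f (pl x y) = 0 := by
    intro x y
    rw [← po_qfo, po, hcon, hcon, hcon]
    ring
  have h3 : (2 : F) • B = ∑ i, ∑ j, B.1 i j • pl (Pi.single i 1) (Pi.single j 1) := by
    have hpl : ∀ u w : Fin n → F, (pl u w).1 = vecMulVec u w + vecMulVec w u := fun _ _ => rfl
    apply Subtype.ext
    simp only [AddSubmonoidClass.coe_finsetSum, Submodule.coe_smul, hpl]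
    ext k l
    have hs : B.1 l k = B.1 k l := congrFun (congrFun B.2 k) l
    simp only [Matrix.sum_apply, Matrix.smul_apply, Matrix.add_apply, vecMulVec_apply, smul_eq_mul, Pi.single_apply, mul_add,
      Finset.sum_add_distrib]
    simp [hs]
    ring
  have h4 : (2 : F) * f B = 0 := by
    rw [← smul_eq_mul, ← map_smul, h3, map_sum]
    refine Finset.sum_eq_zero fun i _ => ?_
    rw [map_sum]
    refine Finset.sum_eq_zero fun j _ => ?_
    rw [map_smul, h1, smul_zero]
  simpa [h2] using h4

variable (ψ : AddChar F ℂ)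

/-- The pairing. -/
noncomputable def pp (f : Module.Dual F (SymM F n)) (B : SymM F n) : ℂ := ψ (f B)

lemma pp_pairing (hψ : ψ 1 ≠ 1) : Pairing (pp (n := n) ψ) where
  add x a b := by
    simp [pp, AddChar.map_add_eq_mul]
  zero x := by
    simp [pp]
  orth a ha := by
    obtain ⟨f1, hf1⟩ : ∃ f1 : Module.Dual F (SymM F n), f1 a = 1 := by
      by_contra hcon
      push Not at hcon
      apply ha
      rw [← Module.forall_dual_apply_eq_zero_iff F]
      intro φ
      by_contra hφ
      exact hcon ((φ a)⁻¹ • φ) (by simp [inv_mul_cancel₀ hφ])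
    have h := Equiv.sum_comp (Equiv.addRight f1) (fun x => pp ψ x a)
    have h2 : ∀ x : Module.Dual F (SymM F n), pp ψ (Equiv.addRight f1 x) a = pp ψ x a * ψ 1 := by
      intro x
      simp only [pp, Equiv.coe_addRight, LinearMap.add_apply, AddChar.map_add_eq_mul, hf1]
    simp only [h2, ← Finset.sum_mul] at h
    have h3 : (∑ x : Module.Dual F (SymM F n), pp ψ x a) * (ψ 1 - 1) = 0 := by
      linear_combination h
    exact (mul_eq_zero.mp h3).resolve_right (sub_ne_zero.mpr hψ)
  card := by
    have h1 := Module.card_eq_pow_finrank (K := F) (V := Module.Dual F (SymM F n))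
    have h2 := Module.card_eq_pow_finrank (K := F) (V := SymM F n)
    rw [Subspace.dual_finrank_eq] at h1
    rw [← h2] at h1
    convert h1

variable {V : Type*} [AddCommGroup V] [Module ℂ V] [FiniteDimensional ℂ V]
variable (ρ : Matrix.symplecticGroup (Fin n) F →* Module.End ℂ V)

/-- The operators of the radical. -/
noncomputable def tt (B : SymM F n) : Module.End ℂ V := ρ (UU B)

lemma tt_add (B B' : SymM F n) : tt ρ (B + B') = tt ρ B * tt ρ B' := by
  simp only [tt, UU_add, map_mul]

lemma tt_zero : tt ρ (0 : SymM F n) = 1 := by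
  simp only [tt, UU_zero, map_one]

/-- The weight spaces. -/
noncomputable def WW (f : Module.Dual F (SymM F n)) : Submodule ℂ V :=
  LinearMap.range (ee (pp ψ) (tt ρ) f)

variable (hψ : ψ 1 ≠ 1)

include hψ

lemma mem_WW {f : Module.Dual F (SymM F n)} {v : V} : v ∈ WW ψ ρ f ↔ ∀ B : SymM F n, ρ (UU B) v = ψ (f B) • v :=
  mem_range_ee (pp_pairing ψ hψ) (tt_add ρ) (tt_zero ρ)

omit hψ in
lemma inj_rho (g : Matrix.symplecticGroup (Fin n) F) : Function.Injective (ρ g) := by
  have h : ∀ x, ρ g⁻¹ (ρ g x) = x := by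
    intro x
    have : ρ g⁻¹ * ρ g = 1 := by rw [← map_mul, inv_mul_cancel, map_one]
    exact LinearMap.congr_fun this x
  exact Function.LeftInverse.injective h

lemma map_WW (R : GL (Fin n) F) {f : Module.Dual F (SymM F n)} {v : V} (hv : v ∈ WW ψ ρ f) :
    ρ (LL R⁻¹) v ∈ WW ψ ρ (f.comp (cS (R : Matrix (Fin n) (Fin n) F))) := by
  rw [mem_WW ψ ρ hψ] at hv ⊢
  intro B
  have h1 : LL R⁻¹ * UU (cS (R : Matrix (Fin n) (Fin n) F) B) = UU B * LL R⁻¹ := by
    rw [LL_UU]
    congr 2
    apply Subtype.ext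
    rw [cS_coe, cS_coe]
    have h2 : ((R⁻¹ : GL (Fin n) F) : Matrix (Fin n) (Fin n) F) * (R : Matrix (Fin n) (Fin n) F) = 1 := by
      rw [← Units.val_mul, inv_mul_cancel, Units.val_one]
    have h3 : (R : Matrix (Fin n) (Fin n) F)ᵀ * ((R⁻¹ : GL (Fin n) F) : Matrix (Fin n) (Fin n) F)ᵀ = 1 := by
      rw [← Matrix.transpose_mul, h2, transpose_one]
    simp only [Matrix.mul_assoc]
    rw [h3, Matrix.mul_one, ← Matrix.mul_assoc, h2, Matrix.one_mul]
  calc ρ (UU B) (ρ (LL R⁻¹) v) = (ρ (UU B) * ρ (LL R⁻¹)) v := rfl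
    _ = (ρ (LL R⁻¹) * ρ (UU (cS (R : Matrix (Fin n) (Fin n) F) B))) v := by rw [← map_mul, ← map_mul, h1]
    _ = ρ (LL R⁻¹) (ρ (UU (cS (R : Matrix (Fin n) (Fin n) F) B)) v) := rfl
    _ = ψ (f (cS (R : Matrix (Fin n) (Fin n) F) B)) • ρ (LL R⁻¹) v := by rw [hv, map_smul]
    _ = _ := rfl

/-- The bound from a nonzero weight. -/
lemma bound_of_weight (h2 : (2 : F) ≠ 0) (hn : 2 ≤ n) {f : Module.Dual F (SymM F n)} (hf : WW ψ ρ f ≠ ⊥) (hf0 : f ≠ 0) :
    Fintype.card F ^ n - 1 ≤ 2 * finrank ℂ V := by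
  let s : Finset (Module.Dual F (SymM F n)) :=
    Finset.univ.filter (fun f' => ∃ R : GL (Fin n) F, f' = f.comp (cS (R : Matrix (Fin n) (Fin n) F)))
  have h1 : s.card * 1 ≤ finrank ℂ V := by
    apply card_mul_le (pp_pairing ψ hψ) (tt_add ρ) (tt_zero ρ) s 1
    intro x hx
    obtain ⟨R, rfl⟩ := (Finset.mem_filter.mp hx).2
    have hd1 : 1 ≤ finrank ℂ (WW ψ ρ f) := by
      rw [Nat.one_le_iff_ne_zero, Ne, Submodule.finrank_eq_zero]
      exact hf
    refine hd1.trans ?_
    exact finrank_le_of_map (inj_rho ρ (LL R⁻¹)) (fun v hv => map_WW ψ ρ hψ R hv)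
  rw [mul_one] at h1
  have h3 : (orb (qfo f)).card ≤ s.card := by
    have hsub : orb (qfo f) ⊆ s.image qfo := by
      intro Q' hQ'
      obtain ⟨g, rfl⟩ := mem_orb.mp hQ'
      rw [Finset.mem_image]
      let R : GL (Fin n) F := Cfsg.Agent.Lib.Classical.MatrixBridge.glToLin.symm g
      refine ⟨f.comp (cS (R : Matrix (Fin n) (Fin n) F)), Finset.mem_filter.mpr ⟨Finset.mem_univ _, R, rfl⟩, ?_⟩
      funext x
      show f (cS (R : Matrix (Fin n) (Fin n) F) (rk1 x)) = f (rk1 (g x))
      rw [cS_rk1]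
      congr 2
      have : Cfsg.Agent.Lib.Classical.MatrixBridge.glToLin R x = g x := by
        simp [R]
      simpa using this
    exact (Finset.card_le_card hsub).trans Finset.card_image_le
  have h4 := orbit_odd h2 hn (isQo_qfo f) (exists_qfo_ne h2 hf0)
  calc _ ≤ _ := h4
    _ ≤ _ := Nat.mul_le_mul_left _ (h3.trans h1)

end Weights

/-- **The lower bound for `q` odd.** -/
theorem final (hn : 2 ≤ n) (h2 : (2 : F) ≠ 0) {k : ℕ}
    (ρ : Representation ℂ (Matrix.symplecticGroup (Fin n) F) (Fin k → ℂ)) (hirr : ρ.IsIrreducible) (hk : 2 ≤ k) :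
    (Fintype.card F ^ n - 1) / 2 ≤ k := by
  have hq3 : n = 2 → 3 ≤ Nat.card F := by
    intro _
    rw [Nat.card_eq_fintype_card]
    have h3 : Fintype.card F ≠ 2 := by
      intro hc
      have h4 := (Cfsg.Agent.Lib.Classical.SympSimple.two_eq_zero_iff_even_card (F := F)).mpr (by rw [hc]; exact even_two)
      exact h2 h4
    have h5 : 2 ≤ Fintype.card F := Fintype.one_lt_card
    omega
  obtain ⟨ψ, hψ⟩ := Cfsg.Agent.Lib.SUDeg.Final.exists_psi (F := F)
  have hρ := Cfsg.Agent.Lib.SUDeg.Final.exists_ne_one_of_irr ρ hirr hk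
  have hsimple := Cfsg.Agent.Lib.Classical.SympSimple.isSimpleGroup_PSp (m := n) (F := F) hn hq3
  have hperf := Cfsg.Agent.Lib.Classical.SympSimple.commutator_symplecticGroup (m := n) (F := F) (by
    by_cases h : n = 2
    · exact Or.inr (Or.inl ⟨h, hq3 h⟩)
    · exact Or.inl (by omega))
  let i0 : Fin n := ⟨0, by omega⟩
  let i1 : Fin n := ⟨1, by omega⟩
  have hi : i0 ≠ i1 := by
    intro h
    have := congrArg Fin.val h
    simp [i0, i1] at this
  let a : SymM F n := pl (Pi.single i0 1) (Pi.single i1 1)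
  have hnot : UU a ∉ Subgroup.center (Matrix.symplecticGroup (Fin n) F) := by
    intro hc
    have h3 := (Cfsg.Agent.Lib.Classical.SympSimple.mem_center_symplecticGroup_iff (by omega) (UU a)).mp hc
    have hentry : (UU a).1 (Sum.inl i0) (Sum.inr i1) = 1 := by
      rw [UU_coe]
      simp [a, pl, vecMulVec_apply, hi, hi.symm]
    rcases h3 with h3 | h3
    · rw [h3] at hentry
      have : (1 : Matrix.symplecticGroup (Fin n) F).1 (Sum.inl i0) (Sum.inr i1) = 0 := by
        show (1 : Matrix _ _ F) (Sum.inl i0) (Sum.inr i1) = 0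
        simp
      rw [this] at hentry
      exact zero_ne_one hentry
    · rw [h3] at hentry
      have : (Cfsg.Agent.Lib.Classical.SympSimple.negOne n F).1 (Sum.inl i0) (Sum.inr i1) = 0 := by
        show (-1 : Matrix _ _ F) (Sum.inl i0) (Sum.inr i1) = 0
        simp
      rw [this] at hentry
      exact zero_ne_one hentry
  have hU : ρ (UU a) ≠ 1 := by
    intro h6
    have hK := Cfsg.Agent.Lib.WtSpace.Basic.eq_top_of_not_le_center hsimple hperf ρ.ker inferInstance (x := UU a) h6 hnot
    obtain ⟨g, hg⟩ := hρ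
    apply hg
    have : g ∈ ρ.ker := by
      rw [hK]
      trivial
    exact this
  have hex2 : ∃ f : Module.Dual F (SymM F n), f ≠ 0 ∧ WW ψ ρ f ≠ ⊥ := by
    by_contra hcon
    push Not at hcon
    apply hU
    apply LinearMap.ext
    intro v
    have := tau_of_zero (pp_pairing ψ hψ) (tt_add ρ) (tt_zero ρ) (x₀ := (0 : Module.Dual F (SymM F n)))
      (fun x hx => hcon x hx) a v
    simpa [tt, pp] using this
  obtain ⟨f, hf0, hf⟩ := hex2
  have h7 := bound_of_weight ψ ρ hψ h2 hn hf hf0
  rw [finrank_fin_fun] at h7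
  exact Nat.div_le_of_le_mul h7

end Cfsg.Agent.Lib.SpDeg.Odd
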