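import Mathlib
import Cfsg.Agent.Lib.Classical.MatrixBridge

/-!
Quadratic forms over a finite field of characteristic two: a quadratic form with nonzero polar form on a
space of dimension `n ≥ 2` has at least `(q^n-1)(q^n-q)/(2(q+1))` images under the general linear group.
-/

set_option autoImplicit false
set_option linter.unusedSectionVars false
set_option linter.unusedVariables false
set_option linter.unusedSimpArgs false
set_option linter.ambiguousOpen false

namespace Cfsg.Agent.Lib.SpDeg.Orbit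

open Module
open scoped _root_.Classical

universe u

variable {F : Type u} [Field F] {V : Type u} [AddCommGroup V] [Module F V]

/-- The polar form in characteristic two. -/
def pol (Q : V → F) (x y : V) : F := Q (x + y) + Q x + Q y

/-- Quadratic forms, as functions. -/
structure IsQ (Q : V → F) : Prop where
  smul : ∀ (t : F) (x : V), Q (t • x) = t * t * Q x
  add_left : ∀ x x' y, pol Q (x + x') y = pol Q x y + pol Q x' y
  smul_left : ∀ (t : F) x y, pol Q (t • x) y = t * pol Q x y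

lemma pol_comm (Q : V → F) (x y : V) : pol Q x y = pol Q y x := by
  simp only [pol, add_comm x y]
  ring

section Basic

variable [CharP F 2] {Q : V → F} (hQ : IsQ Q)

include hQ

lemma IsQ.add_right (x y y' : V) : pol Q x (y + y') = pol Q x y + pol Q x y' := by
  rw [pol_comm, hQ.add_left, pol_comm Q y, pol_comm Q y']

lemma IsQ.smul_right (t : F) (x y : V) : pol Q x (t • y) = t * pol Q x y := by
  rw [pol_comm, hQ.smul_left, pol_comm]

lemma IsQ.zero : Q 0 = 0 := by
  have := hQ.smul 0 0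
  simpa using this

lemma IsQ.pol_self (x : V) : pol Q x x = 0 := by
  have h2 : (2 : F) = 0 := CharTwo.two_eq_zero
  have h : x + x = 0 := by
    have : ((2 : F)) • x = 0 := by rw [h2, zero_smul]
    rwa [two_smul] at this
  rw [pol, h, hQ.zero]
  linear_combination (Q x) * h2

lemma IsQ.add (x y : V) : Q (x + y) = Q x + Q y + pol Q x y := by
  have h2 : (2 : F) = 0 := CharTwo.two_eq_zero
  rw [pol]
  linear_combination (- (Q x + Q y)) * h2

lemma IsQ.pol_zero_left (y : V) : pol Q 0 y = 0 := by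
  have := hQ.smul_left 0 0 y
  simpa using this

lemma IsQ.pol_zero_right (y : V) : pol Q y 0 = 0 := by
  rw [pol_comm, hQ.pol_zero_left]

omit hQ in
lemma mul_self_inj' {a b : F} (h : a * a = b * b) : a = b := by
  have h2 : (2 : F) = 0 := CharTwo.two_eq_zero
  have : (a + b) * (a + b) = 0 := by
    linear_combination h + (a * b + b * b) * h2
  have h3 := mul_self_eq_zero.mp this
  linear_combination h3 - b * h2

end Basic

lemma IsQ.comp {W : Type u} [AddCommGroup W] [Module F W] {Q : V → F} (hQ : IsQ Q) (g : W →ₗ[F] V) : IsQ (Q ∘ g) where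
  smul t x := by
    simp [hQ.smul]
  add_left x x' y := by
    have := hQ.add_left (g x) (g x') (g y)
    simpa [pol] using this
  smul_left t x y := by
    have := hQ.smul_left t (g x) (g y)
    simpa [pol] using this

lemma pol_comp {W : Type u} [AddCommGroup W] [Module F W] (Q : V → F) (g : W →ₗ[F] V) (x y : W) :
    pol (Q ∘ g) x y = pol Q (g x) (g y) := by
  simp [pol]

lemma pol_comp' {W : Type u} [AddCommGroup W] [Module F W] (Q : V → F) (g : W ≃ₗ[F] V) (x y : W) :
    pol (Q ∘ g) x y = pol Q (g x) (g y) := by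
  simp [pol]

/-! ### Orbits -/

section Orb

variable [Fintype F] [Fintype V]

/-- The orbit of a form under the general linear group. -/
noncomputable def orb (Q : V → F) : Finset (V → F) :=
  Finset.univ.filter (fun Q' => ∃ g : V ≃ₗ[F] V, Q' = Q ∘ g)

lemma mem_orb {Q Q' : V → F} : Q' ∈ orb Q ↔ ∃ g : V ≃ₗ[F] V, Q' = Q ∘ g := by
  simp [orb]

lemma self_mem_orb (Q : V → F) : Q ∈ orb Q :=
  mem_orb.mpr ⟨LinearEquiv.refl F V, by ext; simp⟩

lemma orb_comp (Q : V → F) (g : V ≃ₗ[F] V) : orb (Q ∘ g) = orb Q := by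
  ext Q'
  rw [mem_orb, mem_orb]
  constructor
  · rintro ⟨h, rfl⟩
    exact ⟨h.trans g, by ext x; simp⟩
  · rintro ⟨h, rfl⟩
    refine ⟨h.trans g.symm, ?_⟩
    ext x
    simp

lemma comp_mem_orb {Q Q' : V → F} (h : Q' ∈ orb Q) (g : V ≃ₗ[F] V) : Q' ∘ g ∈ orb Q := by
  obtain ⟨k, rfl⟩ := mem_orb.mp h
  exact mem_orb.mpr ⟨g.trans k, by ext x; simp⟩

/-- Transport of the orbit under a linear isomorphism. -/
lemma card_orb_congr {W : Type u} [AddCommGroup W] [Module F W] [Fintype W] (Θ : V ≃ₗ[F] W) (Q : W → F) :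
    (orb (Q ∘ Θ)).card = (orb Q).card := by
  apply Finset.card_bij' (fun Q' _ => Q' ∘ Θ.symm) (fun Q' _ => Q' ∘ Θ)
  · intro Q' h
    obtain ⟨g, rfl⟩ := mem_orb.mp h
    exact mem_orb.mpr ⟨(Θ.symm.trans g).trans Θ, by ext x; simp⟩
  · intro Q' h
    obtain ⟨g, rfl⟩ := mem_orb.mp h
    exact mem_orb.mpr ⟨(Θ.trans g).trans Θ.symm, by ext x; simp⟩
  · intro Q' h
    ext x
    simp
  · intro Q' h
    ext x
    simp

end Orb

/-! ### The product -/

section Prod

variable {V' : Type u} [AddCommGroup V'] [Module F V']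

/-- Restriction to the hyperplane. -/
def res (Q : V' × F → F) : V' → F := fun x => Q (x, 0)

/-- The unipotent elements fixing the hyperplane. -/
def tau (u : V') : (V' × F) ≃ₗ[F] (V' × F) where
  toFun x := (x.1 + x.2 • u, x.2)
  invFun x := (x.1 - x.2 • u, x.2)
  map_add' x y := by
    refine Prod.ext ?_ rfl
    simp only [Prod.fst_add, Prod.snd_add, add_smul]
    abel
  map_smul' t x := by
    refine Prod.ext ?_ rfl
    simp [smul_add, mul_smul]
  left_inv x := by
    simp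
  right_inv x := by
    simp

lemma tau_apply (u : V') (x : V' × F) : tau u x = (x.1 + x.2 • u, x.2) := rfl

/-- The extension of a linear map of the hyperplane. -/
def hx (h : V' ≃ₗ[F] V') : (V' × F) ≃ₗ[F] (V' × F) := LinearEquiv.prodCongr h (LinearEquiv.refl F F)

lemma hx_apply (h : V' ≃ₗ[F] V') (x : V' × F) : hx h x = (h x.1, x.2) := rfl

lemma res_comp_tau (Q : V' × F → F) (u : V') : res (Q ∘ tau u) = res Q := by
  ext x
  simp [res, tau_apply]

lemma res_comp_hx (Q : V' × F → F) (h : V' ≃ₗ[F] V') : res (Q ∘ hx h) = res Q ∘ h := by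
  ext x
  simp [res, hx_apply]

lemma IsQ.res {Q : V' × F → F} (hQ : IsQ Q) : IsQ (res Q) :=
  hQ.comp (LinearMap.inl F V' F)

lemma pol_res (Q : V' × F → F) (x y : V') : pol (res Q) x y = pol Q (x, 0) (y, 0) := by
  simp [pol, res]

variable [CharP F 2] {Q : V' × F → F} (hQ : IsQ Q)

include hQ

lemma tau_eq {u v : V'} (hT : Q ∘ tau u = Q ∘ tau v) :
    (∀ h, pol (res Q) h u = pol (res Q) h v) ∧
      res Q u + pol Q (0, 1) (u, 0) = res Q v + pol Q (0, 1) (v, 0) := by
  have h1 : ∀ h u : V', Q (h + u, 1) = Q (h, 1) + res Q u + (pol (res Q) h u + pol Q (0, 1) (u, 0)) := by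
    intro h u
    have e1 : ((h + u, 1) : V' × F) = (h, 1) + (u, 0) := by simp
    have e2 : ((h, 1) : V' × F) = (h, 0) + (0, 1) := by simp
    rw [e1, hQ.add]
    congr 1
    rw [e2, hQ.add_left, pol_res]
  have h2 : ∀ h : V', Q (h + u, 1) = Q (h + v, 1) := by
    intro h
    have := congrFun hT (h, 1)
    simpa [tau_apply] using this
  have h3 : ∀ h : V', res Q u + (pol (res Q) h u + pol Q (0, 1) (u, 0)) = res Q v + (pol (res Q) h v + pol Q (0, 1) (v, 0)) := by
    intro h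
    have := h2 h
    rw [h1, h1] at this
    linear_combination this
  have h0 := h3 0
  rw [hQ.res.pol_zero_left, hQ.res.pol_zero_left] at h0
  refine ⟨fun h => ?_, by linear_combination h0⟩
  have := h3 h
  linear_combination this - h0

/-- A hyperbolic pair gives many images. -/
lemma fiber2 {x0 y0 : V'} (h : pol (res Q) x0 y0 = 1) :
    Function.Injective (fun p : F × F => Q ∘ tau (p.1 • x0 + p.2 • y0)) := by
  intro p p' hT
  have hQr := hQ.res
  obtain ⟨h1, -⟩ := tau_eq hQ hT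
  have hyx : pol (res Q) y0 x0 = 1 := by rw [pol_comm, h]
  have e1 := h1 x0
  have e2 := h1 y0
  simp only [hQr.add_right, hQr.smul_right, hQr.pol_self, h, hyx, mul_zero, zero_add, add_zero, mul_one] at e1 e2
  exact Prod.ext e2 e1

/-- With a singular vector in the radical there are more images. -/
lemma fiber3 {x0 y0 z0 : V'} (h : pol (res Q) x0 y0 = 1) (hz : ∀ y, pol (res Q) z0 y = 0) (hz0 : res Q z0 = 0)
    (hw : pol Q (0, 1) (z0, 0) ≠ 0) :
    Function.Injective (fun p : F × F × F => Q ∘ tau (p.1 • x0 + p.2.1 • y0 + p.2.2 • z0)) := by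
  intro p p' hT
  have hQr := hQ.res
  obtain ⟨h1, h2⟩ := tau_eq hQ hT
  have hyx : pol (res Q) y0 x0 = 1 := by rw [pol_comm, h]
  have hz' : ∀ y, pol (res Q) y z0 = 0 := fun y => by rw [pol_comm, hz]
  have e1 := h1 x0
  have e2 := h1 y0
  simp only [hQr.add_right, hQr.smul_right, hQr.pol_self, h, hyx, hz', mul_zero, zero_add, add_zero, mul_one] at e1 e2
  obtain ⟨a, b, c⟩ := p
  obtain ⟨a', b', c'⟩ := p'
  simp only at e1 e2 h2
  subst e1 e2
  have h3 : ∀ (c : F), res Q (a • x0 + b • y0 + c • z0) = res Q (a • x0 + b • y0) := by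
    intro c
    rw [hQr.add, hQr.smul, hz0, hQr.smul_right, hz']
    ring
  have h4 : ∀ (c : F), pol Q (0, 1) (a • x0 + b • y0 + c • z0, 0) =
      pol Q (0, 1) (a • x0 + b • y0, 0) + c * pol Q (0, 1) (z0, 0) := by
    intro c
    have : ((a • x0 + b • y0 + c • z0, 0) : V' × F) = (a • x0 + b • y0, 0) + c • (z0, 0) := by simp
    rw [this, hQ.add_right, hQ.smul_right]
  rw [h3, h3, h4, h4] at h2
  have h5 : (c - c') * pol Q (0, 1) (z0, 0) = 0 := by
    linear_combination h2
  have h6 : c = c' := sub_eq_zero.mp ((mul_eq_zero.mp h5).resolve_right hw)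
  rw [h6]

end Prod

/-! ### Counting the images -/

section Count

variable {V' : Type u} [AddCommGroup V'] [Module F V'] [Fintype F] [Fintype V'] [CharP F 2]

/-- The forms in the orbit whose restriction to the hyperplane has nonzero polar form. -/
noncomputable def O2 (Q : V' × F → F) : Finset (V' × F → F) :=
  (orb Q).filter (fun Q' => ∃ x y, pol (res Q') x y ≠ 0)

lemma O2_card_le (Q : V' × F → F) : (O2 Q).card ≤ (orb Q).card :=
  Finset.card_filter_le _ _

lemma fib_le {P : Type*} [Fintype P] {Q Q3 : V' × F → F} (hQ3 : Q3 ∈ orb Q) (hp : ∃ x y, pol (res Q3) x y ≠ 0)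
    (ι : P → V') (hinj : Function.Injective (fun p => Q3 ∘ tau (ι p))) :
    Fintype.card P ≤ ((O2 Q).filter (fun Q' => res Q' = res Q3)).card := by
  rw [← Finset.card_univ]
  apply Finset.card_le_card_of_injOn (fun p => Q3 ∘ tau (ι p)) _ (fun a _ b _ h => hinj h)
  intro p _
  simp only [Finset.coe_filter, Set.mem_ofPred_eq, O2, Finset.mem_filter]
  rw [res_comp_tau]
  exact ⟨⟨comp_mem_orb hQ3 _, hp⟩, rfl⟩

lemma count_fib (Q : V' × F → F) (O' : Finset (V' → F)) (d : ℕ)
    (h : ∀ f' ∈ O', d ≤ ((O2 Q).filter (fun Q' => res Q' = f')).card) : d * O'.card ≤ (O2 Q).card := by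
  have h1 : ((O2 Q).filter (fun Q' => res Q' ∈ O')).card = ∑ f' ∈ O', (((O2 Q).filter (fun Q' => res Q' ∈ O')).filter (fun Q' => res Q' = f')).card :=
    Finset.card_eq_sum_card_fiberwise (fun Q' hQ' => (Finset.mem_filter.mp hQ').2)
  have h2 : ∀ f' ∈ O', ((O2 Q).filter (fun Q' => res Q' ∈ O')).filter (fun Q' => res Q' = f') = (O2 Q).filter (fun Q' => res Q' = f') := by
    intro f' hf'
    ext Q'
    simp only [Finset.mem_filter]
    constructor
    · rintro ⟨⟨a, -⟩, b⟩
      exact ⟨a, b⟩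
    · rintro ⟨a, b⟩
      exact ⟨⟨a, b ▸ hf'⟩, b⟩
  rw [Finset.sum_congr rfl (fun f' hf' => by rw [h2 f' hf'])] at h1
  calc d * O'.card = ∑ _f' ∈ O', d := by simp [mul_comm]
    _ ≤ ∑ f' ∈ O', ((O2 Q).filter (fun Q' => res Q' = f')).card := Finset.sum_le_sum h
    _ = ((O2 Q).filter (fun Q' => res Q' ∈ O')).card := h1.symm
    _ ≤ (O2 Q).card := Finset.card_filter_le _ _

variable {Q : V' × F → F} (hQ : IsQ Q)

include hQ

/-- Nonzero polar form can be normalised. -/
lemma exists_pol_one {f : V' → F} (hf : IsQ f) (h : ∃ x y, pol f x y ≠ 0) : ∃ x y, pol f x y = 1 := by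
  obtain ⟨x, y, hxy⟩ := h
  exact ⟨(pol f x y)⁻¹ • x, y, by rw [hf.smul_left, inv_mul_cancel₀ hxy]⟩

lemma card_step2 (hp : ∃ x y, pol (res Q) x y ≠ 0) :
    Fintype.card F ^ 2 * (orb (res Q)).card ≤ (O2 Q).card := by
  apply count_fib
  intro f' hf'
  obtain ⟨h, rfl⟩ := mem_orb.mp hf'
  have hQ3 : IsQ (Q ∘ hx h) := hQ.comp _
  have hp3 : ∃ x y, pol (res (Q ∘ hx h)) x y ≠ 0 := by
    obtain ⟨x, y, hxy⟩ := hp
    refine ⟨h.symm x, h.symm y, ?_⟩
    rw [res_comp_hx]
    have : pol (res Q ∘ h) (h.symm x) (h.symm y) = pol (res Q) x y := by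
      rw [pol_comp']
      simp
    rwa [this]
  obtain ⟨x0, y0, hxy⟩ := exists_pol_one hQ hQ3.res hp3
  have := fib_le (P := F × F) (Q := Q) (Q3 := Q ∘ hx h) (comp_mem_orb (self_mem_orb Q) _) hp3 _ (fiber2 hQ3 hxy)
  rw [res_comp_hx, Fintype.card_prod] at this
  rwa [sq]

lemma card_step3 {z0 x1 y1 : V'} (h1 : pol (res Q) x1 y1 ≠ 0) (hz : ∀ y, pol (res Q) z0 y = 0) (hz0 : res Q z0 = 0)
    (hw : pol Q (0, 1) (z0, 0) ≠ 0) :
    Fintype.card F ^ 3 * (orb (res Q)).card ≤ (O2 Q).card := by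
  apply count_fib
  intro f' hf'
  obtain ⟨h, rfl⟩ := mem_orb.mp hf'
  have hQ3 : IsQ (Q ∘ hx h) := hQ.comp _
  have hpol : ∀ x y, pol (res (Q ∘ hx h)) x y = pol (res Q) (h x) (h y) := by
    intro x y
    rw [res_comp_hx, pol_comp']
  have hp3 : ∃ x y, pol (res (Q ∘ hx h)) x y ≠ 0 := by
    refine ⟨h.symm x1, h.symm y1, ?_⟩
    rw [hpol]
    simpa using h1
  obtain ⟨x0, y0, hxy⟩ := exists_pol_one hQ hQ3.res hp3
  have hf3 := fiber3 hQ3 (z0 := h.symm z0) hxy (by
      intro y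
      rw [hpol]
      simp [hz]) (by
      rw [res_comp_hx]
      simpa using hz0) (by
      have e1 : hx h (0, 1) = ((0, 1) : V' × F) := by simp [hx_apply]
      have e2 : hx h (h.symm z0, 0) = ((z0, 0) : V' × F) := by simp [hx_apply]
      have e3 : pol (Q ∘ hx h) (0, 1) (h.symm z0, 0) = pol Q (hx h (0, 1)) (hx h (h.symm z0, 0)) := pol_comp' _ _ _ _
      rw [e3, e1, e2]
      exact hw)
  have := fib_le (P := F × F × F) (Q := Q) (Q3 := Q ∘ hx h) (comp_mem_orb (self_mem_orb Q) _) hp3 _ hf3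
  rw [res_comp_hx, Fintype.card_prod, Fintype.card_prod] at this
  calc Fintype.card F ^ 3 = Fintype.card F * (Fintype.card F * Fintype.card F) := by ring
    _ ≤ _ := this

end Count

/-! ### The double count -/

section Dual

variable [Fintype F] [CharP F 2]

/-- The linear form of the polar form. -/
def polL {Q : V → F} (hQ : IsQ Q) (z : V) : V →ₗ[F] F where
  toFun x := pol Q x z
  map_add' x y := hQ.add_left x y z
  map_smul' t x := hQ.smul_left t x z

lemma polL_apply {Q : V → F} (hQ : IsQ Q) (z x : V) : polL hQ z x = pol Q x z := rfl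

lemma exists_sq (a : F) : ∃ s : F, s * s = a := by
  obtain ⟨r, hr⟩ := FiniteField.isSquare_of_char_two (ringChar.eq F 2) a
  exact ⟨r, hr.symm⟩

/-- A singular vector. -/
lemma exists_singular {Q : V → F} (hQ : IsQ Q) {z e x y : V} (he : pol Q e z ≠ 0) (hx : pol Q x z = 0) (hy : pol Q y z = 0)
    (hxy : pol Q x y ≠ 0) :
    ∃ z1 e1 x1 y1, Q z1 = 0 ∧ pol Q e1 z1 ≠ 0 ∧ pol Q x1 z1 = 0 ∧ pol Q y1 z1 = 0 ∧ pol Q x1 y1 ≠ 0 := by
  by_cases hz : Q z = 0
  · exact ⟨z, e, x, y, hz, he, hx, hy, hxy⟩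
  have h2 : (2 : F) = 0 := CharTwo.two_eq_zero
  obtain ⟨x', hx'1, hx'2⟩ : ∃ x', pol Q x' y = 1 ∧ pol Q x' z = 0 :=
    ⟨(pol Q x y)⁻¹ • x, by rw [hQ.smul_left, inv_mul_cancel₀ hxy], by rw [hQ.smul_left, hx, mul_zero]⟩
  obtain ⟨e', he'⟩ : ∃ e', pol Q e' z = 1 := ⟨(pol Q e z)⁻¹ • e, by rw [hQ.smul_left, inv_mul_cancel₀ he]⟩
  obtain ⟨s, hs⟩ := exists_sq (Q x' / Q z)
  have hyx : pol Q y x' = 1 := by rw [pol_comm, hx'1]
  have hzy : pol Q z y = 0 := by rw [pol_comm, hy]
  have hzx : pol Q z x' = 0 := by rw [pol_comm, hx'2]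
  set e2 := e' + pol Q e' y • x' + pol Q e' x' • y with he2
  have h1 : pol Q e2 x' = 0 := by
    simp only [he2, hQ.add_left, hQ.smul_left, hQ.pol_self, hyx]
    linear_combination (pol Q e' x') * h2
  have h3 : pol Q e2 y = 0 := by
    simp only [he2, hQ.add_left, hQ.smul_left, hQ.pol_self, hx'1]
    linear_combination (pol Q e' y) * h2
  have h4 : pol Q e2 z = 1 := by
    simp only [he2, hQ.add_left, hQ.smul_left, hy, hx'2, he']
    ring
  refine ⟨x' + s • z, y, z, e2 + s • y, ?_, ?_, ?_, ?_, ?_⟩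
  · rw [hQ.add, hQ.smul, hs, hQ.smul_right, hx'2]
    field_simp
    linear_combination (Q x') * h2
  · rw [hQ.add_right, hQ.smul_right, hy, hyx]
    simp
  · rw [hQ.add_right, hQ.smul_right, hzx, hQ.pol_self]
    simp
  · simp only [hQ.add_left, hQ.add_right, hQ.smul_left, hQ.smul_right, h1, h4, hyx, hy]
    linear_combination s * h2
  · rw [hQ.add_right, hQ.smul_right, hzy, pol_comm, h4]
    simp

variable {V' : Type u} [AddCommGroup V'] [Module F V'] [Fintype V']

/-- Every nonzero linear form is the last coordinate for suitable coordinates. -/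
lemma exists_g (φ : (V' × F) →ₗ[F] F) (hφ : φ ≠ 0) : ∃ g : (V' × F) ≃ₗ[F] (V' × F), ∀ a, φ (g a) = a.2 := by
  obtain ⟨v0, hv0⟩ : ∃ v, φ v ≠ 0 := by
    by_contra hcon
    push Not at hcon
    exact hφ (LinearMap.ext hcon)
  obtain ⟨v, hv⟩ : ∃ v, φ v = 1 := ⟨(φ v0)⁻¹ • v0, by rw [map_smul, smul_eq_mul, inv_mul_cancel₀ hv0]⟩
  have hsurj : LinearMap.range φ = ⊤ := by
    rw [LinearMap.range_eq_top]
    intro c
    exact ⟨c • v, by rw [map_smul, hv, smul_eq_mul, mul_one]⟩
  have hfr : finrank F (LinearMap.ker φ) = finrank F V' := by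
    have h := LinearMap.finrank_range_add_finrank_ker φ
    rw [hsurj, finrank_top, Module.finrank_self, Module.finrank_prod, Module.finrank_self] at h
    omega
  let θ : V' ≃ₗ[F] LinearMap.ker φ := LinearEquiv.ofFinrankEq _ _ hfr.symm
  let G : (V' × F) →ₗ[F] (V' × F) :=
    (LinearMap.ker φ).subtype.comp (θ.toLinearMap.comp (LinearMap.fst F V' F)) + (LinearMap.snd F V' F).smulRight v
  have hG : ∀ a, G a = (θ a.1 : V' × F) + a.2 • v := fun a => rfl
  have hφG : ∀ a, φ (G a) = a.2 := by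
    intro a
    rw [hG, map_add, map_smul, hv, LinearMap.mem_ker.mp (θ a.1).2]
    simp
  have hinj : Function.Injective G := by
    rw [injective_iff_map_eq_zero]
    intro a ha
    have h2 : a.2 = 0 := by
      rw [← hφG, ha, map_zero]
    have h3 : (θ a.1 : V' × F) = 0 := by
      have := hG a
      rw [ha, h2, zero_smul, add_zero] at this
      exact this.symm
    have h4 : a.1 = 0 := by
      have h5 : θ a.1 = 0 := Subtype.ext h3
      simpa using h5
    exact Prod.ext h4 h2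
  exact ⟨LinearEquiv.ofInjectiveEndo G hinj, fun a => hφG a⟩

/-- `φ` is good for `Q` when the polar form does not vanish on its kernel. -/
def Gd (Q : V → F) (φ : V →ₗ[F] F) : Prop := ∃ x y, φ x = 0 ∧ φ y = 0 ∧ pol Q x y ≠ 0

variable [Fintype V]

lemma good_card_le {Q : V → F} (hQ : IsQ Q) (Φ : Finset (V →ₗ[F] F)) (hΦ : ∀ φ, φ ≠ 0 → φ ∈ Φ)
    (hA : ∀ z e x y, pol Q e z ≠ 0 → pol Q x z = 0 → pol Q y z = 0 → pol Q x y = 0)
    {x0 y0 : V} (h : pol Q x0 y0 = 1) :
    (Φ.filter (Gd Q)).card + (Fintype.card F ^ 2 - 1) ≤ Φ.card := by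
  have hyx : pol Q y0 x0 = 1 := by rw [pol_comm, h]
  let B : F × F → (V →ₗ[F] F) := fun p => polL hQ (p.1 • x0 + p.2 • y0)
  have hB1 : ∀ p, B p x0 = p.2 := by
    intro p
    simp only [B, polL_apply, hQ.add_right, hQ.smul_right, hQ.pol_self, h]
    ring
  have hB2 : ∀ p, B p y0 = p.1 := by
    intro p
    simp only [B, polL_apply, hQ.add_right, hQ.smul_right, hQ.pol_self, hyx]
    ring
  have hBinj : Function.Injective B := by
    intro p p' e
    exact Prod.ext (by rw [← hB2, e, hB2]) (by rw [← hB1, e, hB1])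
  have hB0 : ∀ p : F × F, p ≠ 0 → B p ≠ 0 := by
    intro p hp h0
    apply hp
    refine Prod.ext ?_ ?_
    · rw [← hB2, h0]
      rfl
    · rw [← hB1, h0]
      rfl
  let Bd : Finset (V →ₗ[F] F) := (Finset.univ.filter (fun p : F × F => p ≠ 0)).image B
  have hBd : Bd.card = Fintype.card F ^ 2 - 1 := by
    rw [Finset.card_image_of_injective _ hBinj, Finset.filter_ne', Finset.card_erase_of_mem (Finset.mem_univ _),
      Finset.card_univ, Fintype.card_prod, sq]
  have hdis : Disjoint (Φ.filter (Gd Q)) Bd := by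
    rw [Finset.disjoint_left]
    intro φ hφ hφ'
    obtain ⟨p, hp, rfl⟩ := Finset.mem_image.mp hφ'
    have hp0 : p ≠ 0 := (Finset.mem_filter.mp hp).2
    obtain ⟨-, x, y, hx, hy, hxy⟩ := Finset.mem_filter.mp hφ
    obtain ⟨e, he⟩ : ∃ e, B p e ≠ 0 := by
      by_contra hcon
      push Not at hcon
      exact hB0 p hp0 (LinearMap.ext hcon)
    exact hxy (hA (p.1 • x0 + p.2 • y0) e x y he hx hy)
  rw [← hBd, ← Finset.card_union_of_disjoint hdis]
  apply Finset.card_le_card
  intro φ hφ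
  rcases Finset.mem_union.mp hφ with h1 | h1
  · exact (Finset.mem_filter.mp h1).1
  · obtain ⟨p, hp, rfl⟩ := Finset.mem_image.mp h1
    exact hΦ _ (hB0 p (Finset.mem_filter.mp hp).2)

end Dual

section Double

variable [Fintype F] [CharP F 2] {V' : Type u} [AddCommGroup V'] [Module F V'] [Fintype V']

/-- The number of nonzero linear forms. -/
lemma card_dual_filter [Finite (V →ₗ[F] F)] [Fintype V] [Fintype (V →ₗ[F] F)] :
    (Finset.univ.filter (fun φ : V →ₗ[F] F => φ ≠ 0)).card = Fintype.card F ^ finrank F V - 1 := by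
  rw [Finset.filter_ne', Finset.card_erase_of_mem (Finset.mem_univ _), Finset.card_univ]
  have h := Module.card_eq_pow_finrank (K := F) (V := Module.Dual F V)
  rw [Subspace.dual_finrank_eq] at h
  congr 1

/-- The double count. -/
theorem double_count {Q : V' × F → F} (hQ : IsQ Q)
    (hA : ∀ z e x y, pol Q e z ≠ 0 → pol Q x z = 0 → pol Q y z = 0 → pol Q x y = 0)
    (hne : ∃ x y, pol Q x y ≠ 0) :
    (Fintype.card F ^ (finrank F V' + 1) - 1) * (O2 Q).card ≤
      (orb Q).card * (Fintype.card F ^ (finrank F V' + 1) - Fintype.card F ^ 2) := by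
  have : Finite ((V' × F) →ₗ[F] F) := Module.finite_of_finite F
  let _ : Fintype ((V' × F) →ₗ[F] F) := Fintype.ofFinite _
  let Φ : Finset ((V' × F) →ₗ[F] F) := Finset.univ.filter (fun φ => φ ≠ 0)
  have hΦc : Φ.card = Fintype.card F ^ (finrank F V' + 1) - 1 := by
    have := card_dual_filter (F := F) (V := V' × F)
    rwa [Module.finrank_prod, Module.finrank_self] at this
  have h1 : ∀ φ ∈ Φ, (O2 Q).card ≤ ((orb Q).filter (fun Q' => Gd Q' φ)).card := by
    intro φ hφ
    obtain ⟨g, hg⟩ := exists_g φ (Finset.mem_filter.mp hφ).2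
    apply Finset.card_le_card_of_injOn (fun Q'' => Q'' ∘ g.symm)
    · intro Q'' hQ''
      have hQ2 := Finset.mem_coe.mp hQ''
      obtain ⟨h3, x, y, hxy⟩ := Finset.mem_filter.mp hQ2
      simp only [Finset.coe_filter, Set.mem_ofPred_eq]
      refine ⟨comp_mem_orb h3 _, g (x, 0), g (y, 0), by rw [hg], by rw [hg], ?_⟩
      rw [pol_comp']
      simpa [pol_res] using hxy
    · intro Q1 _ Q2 _ h
      ext x
      have := congrFun h (g x)
      simpa using this
  have h2 : ∀ Q' ∈ orb Q, (Φ.filter (Gd Q')).card + (Fintype.card F ^ 2 - 1) ≤ Φ.card := by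
    intro Q' hQ'
    obtain ⟨g, rfl⟩ := mem_orb.mp hQ'
    have hQ3 := hQ.comp g.toLinearMap
    have hQ3' : IsQ (Q ∘ g) := hQ3
    obtain ⟨x0, y0, hxy⟩ := hne
    obtain ⟨x1, y1, h01⟩ : ∃ x y, pol (Q ∘ g) x y = 1 := by
      refine ⟨(pol Q x0 y0)⁻¹ • g.symm x0, g.symm y0, ?_⟩
      rw [hQ3'.smul_left, pol_comp']
      simpa using inv_mul_cancel₀ hxy
    apply good_card_le hQ3' Φ (fun φ hφ => by simp [Φ, hφ]) _ h01
    intro z e x y he hx hy
    rw [pol_comp'] at he hx hy ⊢
    exact hA _ _ _ _ he hx hy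
  have h3 := Finset.sum_card_bipartiteAbove_eq_sum_card_bipartiteBelow (s := orb Q) (t := Φ) (fun Q' φ => Gd Q' φ)
  simp only [Finset.bipartiteAbove, Finset.bipartiteBelow] at h3
  calc (Fintype.card F ^ (finrank F V' + 1) - 1) * (O2 Q).card = Φ.card * (O2 Q).card := by rw [hΦc]
    _ = ∑ _φ ∈ Φ, (O2 Q).card := by simp
    _ ≤ ∑ φ ∈ Φ, ((orb Q).filter (fun Q' => Gd Q' φ)).card := Finset.sum_le_sum h1
    _ = ∑ Q' ∈ orb Q, (Φ.filter (fun φ => Gd Q' φ)).card := h3.symm
    _ ≤ ∑ _Q' ∈ orb Q, (Fintype.card F ^ (finrank F V' + 1) - Fintype.card F ^ 2) := by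
      apply Finset.sum_le_sum
      intro Q' hQ'
      have := h2 Q' hQ'
      have hq1 : 1 ≤ Fintype.card F ^ 2 := Nat.one_le_pow _ _ Fintype.card_pos
      rw [hΦc] at this
      have h5 : Φ.filter (Gd Q') = Φ.filter (fun φ => Gd Q' φ) := rfl
      rw [← h5]
      omega
    _ = _ := by simp

end Double

/-! ### Arithmetic -/

lemma arith_A (q X O A c : ℕ) (hq : 2 ≤ q) (hX : 2 ≤ X) (h1 : (q * q * X - 1) * A ≤ O * (q * q * X - q * q))
    (h2 : q * q * c ≤ A) (h3 : (q * X - 1) * (q * X - q) ≤ 2 * (q + 1) * c) :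
    (q * q * X - 1) * (q * q * X - q) ≤ 2 * (q + 1) * O := by
  have hqX : 1 ≤ q * X := by nlinarith
  have hqX2 : q ≤ q * X := by nlinarith
  have hqqX : 1 ≤ q * q * X := by nlinarith
  have hqqX2 : q ≤ q * q * X := by nlinarith
  have hqqX3 : q * q ≤ q * q * X := by nlinarith
  zify [hqX, hqX2, hqqX, hqqX2, hqqX3] at h1 h3 ⊢
  have h2' : (q : ℤ) * q * c ≤ A := by exact_mod_cast h2
  have hq' : (2 : ℤ) ≤ q := by exact_mod_cast hq
  have hX' : (2 : ℤ) ≤ X := by exact_mod_cast hX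
  set a : ℤ := (q : ℤ) * q * X - 1 with ha
  set b : ℤ := (X : ℤ) - 1 with hb
  have hapos : 0 < a := by nlinarith
  have hbpos : 0 < b := by omega
  have hqq : (0 : ℤ) < (q : ℤ) * q := by nlinarith
  have e1 : a * (q * q * c) ≤ O * (q * q * b) := by
    calc a * (q * q * c) ≤ a * A := mul_le_mul_of_nonneg_left h2' hapos.le
      _ ≤ O * ((q : ℤ) * q * X - q * q) := h1
      _ = O * (q * q * b) := by rw [hb]; ring
  have e2 : a * c ≤ O * b := by
    have : (q * q : ℤ) * (a * c) ≤ (q * q : ℤ) * (O * b) := by linarith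
    exact le_of_mul_le_mul_left this hqq
  have e3 : ((q : ℤ) * X - 1) * q * b ≤ 2 * (q + 1) * c := by
    calc ((q : ℤ) * X - 1) * q * b = ((q : ℤ) * X - 1) * ((q : ℤ) * X - q) := by rw [hb]; ring
      _ ≤ _ := h3
  have e4 : a * (((q : ℤ) * X - 1) * q) * b ≤ (2 * (q + 1) * O) * b := by
    calc a * (((q : ℤ) * X - 1) * q) * b = a * (((q : ℤ) * X - 1) * q * b) := by ring
      _ ≤ a * (2 * (q + 1) * c) := mul_le_mul_of_nonneg_left e3 hapos.le
      _ = (2 * (q + 1) : ℤ) * (a * c) := by ring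
      _ ≤ (2 * (q + 1) : ℤ) * (O * b) := mul_le_mul_of_nonneg_left e2 (by positivity)
      _ = _ := by ring
  have e5 := le_of_mul_le_mul_right e4 hbpos
  calc a * ((q : ℤ) * q * X - q) = a * (((q : ℤ) * X - 1) * q) := by ring
    _ ≤ _ := e5

lemma arith_B (q X O c : ℕ) (hq : 2 ≤ q) (hX : 2 ≤ X) (h1 : q ^ 3 * c ≤ O)
    (h3 : (q * X - 1) * (q * X - q) ≤ 2 * (q + 1) * c) :
    (q * q * X - 1) * (q * q * X - q) ≤ 2 * (q + 1) * O := by
  have hqX : 1 ≤ q * X := by nlinarith
  have hqX2 : q ≤ q * X := by nlinarith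
  have hqqX : 1 ≤ q * q * X := by nlinarith
  have hqqX2 : q ≤ q * q * X := by nlinarith
  zify [hqX, hqX2, hqqX, hqqX2] at h3 ⊢
  have h1' : (q : ℤ) ^ 3 * c ≤ O := by exact_mod_cast h1
  have hq' : (2 : ℤ) ≤ q := by exact_mod_cast hq
  have hX' : (2 : ℤ) ≤ X := by exact_mod_cast hX
  have hc : (0 : ℤ) ≤ c := by positivity
  set a : ℤ := (q : ℤ) * q * X - 1 with ha
  set b : ℤ := (X : ℤ) - 1 with hb
  have hbpos : 0 < b := by omega
  have e0 : a ≤ (q : ℤ) ^ 3 * b := by
    rw [ha, hb]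
    have h5 : (0 : ℤ) ≤ (q : ℤ) ^ 2 * (q - 2) * (X - 2) := by
      apply mul_nonneg (mul_nonneg (by positivity) (by omega)) (by omega)
    have h6 : (0 : ℤ) ≤ (q : ℤ) ^ 2 * (X - 2) := by
      apply mul_nonneg (by positivity) (by omega)
    have h7 : (0 : ℤ) ≤ (q : ℤ) ^ 2 * (q - 2) := by
      apply mul_nonneg (by positivity) (by omega)
    nlinarith
  have hqX' : (0 : ℤ) ≤ ((q : ℤ) * X - 1) * q := by
    apply mul_nonneg
    · have : (1 : ℤ) ≤ (q : ℤ) * X := by exact_mod_cast hqX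
      omega
    · positivity
  calc a * ((q : ℤ) * q * X - q) = a * (((q : ℤ) * X - 1) * q) := by ring
    _ ≤ ((q : ℤ) ^ 3 * b) * (((q : ℤ) * X - 1) * q) := mul_le_mul_of_nonneg_right e0 hqX'
    _ = (q : ℤ) ^ 3 * (((q : ℤ) * X - 1) * ((q : ℤ) * X - q)) := by rw [hb]; ring
    _ ≤ (q : ℤ) ^ 3 * (2 * (q + 1) * c) := mul_le_mul_of_nonneg_left h3 (by positivity)
    _ = 2 * (q + 1) * ((q : ℤ) ^ 3 * c) := by ring
    _ ≤ 2 * (q + 1) * O := mul_le_mul_of_nonneg_left h1' (by positivity)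

end Cfsg.Agent.Lib.SpDeg.Orbit
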