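import Cfsg.Agent.Lib.SpDeg.Orbit

/-!
The bound for orbits of quadratic forms: the induction step, the case of dimension two, the induction.
-/

set_option autoImplicit false
set_option linter.unusedSectionVars false
set_option linter.unusedVariables false
set_option linter.unusedSimpArgs false
set_option linter.ambiguousOpen false

namespace Cfsg.Agent.Lib.SpDeg.OrbitMain

open Module Cfsg.Agent.Lib.SpDeg.Orbit
open scoped _root_.Classical

universe u

variable {F : Type u} [Field F] [Fintype F] [CharP F 2]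

lemma two_le_card : 2 ≤ Fintype.card F := Fintype.one_lt_card

section Step

variable {V' : Type u} [AddCommGroup V'] [Module F V'] [Fintype V']

/-- The induction step. -/
theorem step {n : ℕ} (hn : finrank F V' = n) (hn2 : 2 ≤ n)
    (IH : ∀ f : V' → F, IsQ f → (∃ x y, pol f x y ≠ 0) →
      (Fintype.card F ^ n - 1) * (Fintype.card F ^ n - Fintype.card F) ≤ 2 * (Fintype.card F + 1) * (orb f).card)
    {Q : V' × F → F} (hQ : IsQ Q) (hne : ∃ x y, pol Q x y ≠ 0) :
    (Fintype.card F ^ (n + 1) - 1) * (Fintype.card F ^ (n + 1) - Fintype.card F) ≤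
      2 * (Fintype.card F + 1) * (orb Q).card := by
  have hq : 2 ≤ Fintype.card F := two_le_card
  set q := Fintype.card F with hqdef
  obtain ⟨l, rfl⟩ : ∃ l, n = l + 2 := ⟨n - 2, by omega⟩
  have hX : 2 ≤ q ^ (l + 1) := by
    calc 2 ≤ q := hq
      _ = q ^ 1 := (pow_one q).symm
      _ ≤ q ^ (l + 1) := Nat.pow_le_pow_right (by omega) (by omega)
  have e1 : q ^ (l + 2) = q * q ^ (l + 1) := by ring
  have e2 : q ^ (l + 2 + 1) = q * q * q ^ (l + 1) := by ring
  by_cases hB : ∃ z e x y, pol Q e z ≠ 0 ∧ pol Q x z = 0 ∧ pol Q y z = 0 ∧ pol Q x y ≠ 0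
  · obtain ⟨z, e, x, y, h1, h2, h3, h4⟩ := hB
    obtain ⟨z1, e1', x1, y1, h5, h6, h7, h8, h9⟩ := exists_singular hQ h1 h2 h3 h4
    have hφ : polL hQ z1 ≠ 0 := by
      intro h0
      apply h6
      have := LinearMap.congr_fun h0 e1'
      simpa [polL_apply] using this
    obtain ⟨g, hg⟩ := exists_g (polL hQ z1) hφ
    have hpol : ∀ a b, pol (Q ∘ g) a b = pol Q (g a) (g b) := fun a b => pol_comp' _ _ _ _
    have hpz : ∀ a, pol (Q ∘ g) a (g.symm z1) = a.2 := by
      intro a
      rw [hpol, LinearEquiv.apply_symm_apply, ← hg a, polL_apply]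
    have hQ2 : IsQ (Q ∘ g) := hQ.comp g.toLinearMap
    have hz2 : (g.symm z1).2 = 0 := by
      rw [← hpz, hQ2.pol_self]
    have ez : ((g.symm z1).1, (0 : F)) = g.symm z1 := Prod.ext rfl hz2.symm
    have hx2 : (g.symm x1).2 = 0 := by
      rw [← hpz, hpol]
      simpa using h7
    have hy2 : (g.symm y1).2 = 0 := by
      rw [← hpz, hpol]
      simpa using h8
    have ex : ((g.symm x1).1, (0 : F)) = g.symm x1 := Prod.ext rfl hx2.symm
    have ey : ((g.symm y1).1, (0 : F)) = g.symm y1 := Prod.ext rfl hy2.symm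
    have hf : pol (res (Q ∘ g)) (g.symm x1).1 (g.symm y1).1 ≠ 0 := by
      rw [pol_res, ex, ey, hpol]
      simpa using h9
    have h10 := card_step3 hQ2 (z0 := (g.symm z1).1) hf (by
        intro y
        rw [pol_res, ez, pol_comm, hpz]) (by
        show (Q ∘ g) ((g.symm z1).1, 0) = 0
        rw [ez]
        simpa using h5) (by
        rw [ez, hpz]
        exact one_ne_zero)
    have h11 := IH (res (Q ∘ g)) hQ2.res ⟨_, _, hf⟩
    have h12 := (h10.trans (O2_card_le _))
    rw [orb_comp] at h12
    rw [e2]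
    rw [e1] at h11
    exact arith_B q _ _ _ hq hX h12 h11
  · push Not at hB
    have hA : ∀ z e x y, pol Q e z ≠ 0 → pol Q x z = 0 → pol Q y z = 0 → pol Q x y = 0 :=
      fun z e x y a b c => hB z e x y a b c
    obtain ⟨x, y, hxy⟩ := hne
    have hlt : Submodule.span F {x, y} < ⊤ := by
      rw [lt_top_iff_ne_top]
      intro htop
      have h1 := finrank_span_le_card (R := F) ({x, y} : Set (V' × F))
      rw [htop, finrank_top, Module.finrank_prod, Module.finrank_self, hn] at h1
      have h2 : (Set.toFinset ({x, y} : Set (V' × F))).card ≤ 2 := by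
        rw [Set.toFinset_insert, Set.toFinset_singleton]
        exact Finset.card_le_two
      have h3 : ({x, y} : Set (V' × F)).toFinset.card = _ := rfl
      omega
    obtain ⟨φ, hφ, hker⟩ := Submodule.exists_le_ker_of_lt_top _ hlt
    obtain ⟨g, hg⟩ := exists_g φ hφ
    have hpol : ∀ a b, pol (Q ∘ g) a b = pol Q (g a) (g b) := fun a b => pol_comp' _ _ _ _
    have hQ2 : IsQ (Q ∘ g) := hQ.comp g.toLinearMap
    have hx2 : (g.symm x).2 = 0 := by
      rw [← hg, LinearEquiv.apply_symm_apply]
      exact hker (Submodule.subset_span (by simp))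
    have hy2 : (g.symm y).2 = 0 := by
      rw [← hg, LinearEquiv.apply_symm_apply]
      exact hker (Submodule.subset_span (by simp))
    have ex : ((g.symm x).1, (0 : F)) = g.symm x := Prod.ext rfl hx2.symm
    have ey : ((g.symm y).1, (0 : F)) = g.symm y := Prod.ext rfl hy2.symm
    have hf : pol (res (Q ∘ g)) (g.symm x).1 (g.symm y).1 ≠ 0 := by
      rw [pol_res, ex, ey, hpol]
      simpa using hxy
    have h10 := card_step2 hQ2 ⟨_, _, hf⟩
    have h11 := IH (res (Q ∘ g)) hQ2.res ⟨_, _, hf⟩
    have h12 := double_count hQ2 (by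
      intro z e x y a b c
      rw [hpol] at a b c ⊢
      exact hA _ _ _ _ a b c) ⟨g.symm x, g.symm y, by rw [hpol]; simpa using hxy⟩
    rw [orb_comp, hn] at h12
    rw [← hqdef, e2, sq] at h12
    rw [e2]
    rw [e1] at h11
    rw [sq] at h10
    exact arith_A q _ _ _ _ hq hX h12 h10 h11

end Step

section Base

variable {V : Type u} [AddCommGroup V] [Module F V] [Fintype V] {Q : V → F} (hQ : IsQ Q)

include hQ

lemma hspan (hV : finrank F V = 2) {x y : V} (h : pol Q x y ≠ 0) (v : V) : ∃ a b : F, v = a • x + b • y := by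
  have hli : LinearIndependent F ![x, y] := by
    rw [LinearIndependent.pair_iff]
    intro s t hst
    have h1 := congrArg (fun w => pol Q w y) hst
    have h2 := congrArg (fun w => pol Q x w) hst
    simp only [hQ.add_left, hQ.add_right, hQ.smul_left, hQ.smul_right, hQ.pol_self, hQ.pol_zero_left, hQ.pol_zero_right,
      mul_zero, add_zero, zero_add] at h1 h2
    exact ⟨(mul_eq_zero.mp h1).resolve_right h, (mul_eq_zero.mp h2).resolve_right h⟩
  have hsp := hli.span_eq_top_of_card_eq_finrank (by simp [hV])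
  have hv : v ∈ Submodule.span F (Set.range ![x, y]) := by
    rw [hsp]
    trivial
  have e : Set.range ![x, y] = {x, y} := by
    simp [Matrix.range_cons, Set.pair_comm]
  rw [e, Submodule.mem_span_pair] at hv
  obtain ⟨a, b, hab⟩ := hv
  exact ⟨a, b, hab.symm⟩

/-- The number of vectors of a given value. -/
lemma card_X (hV : finrank F V = 2) {α β : F} (hα : α ≠ 0) (hβ : β ≠ 0) :
    (Finset.univ.filter (fun X : V => Q X = α ∧ ∃ Y, pol Q X Y = β)).card ≤ Fintype.card F + 1 := by
  set S1 := Finset.univ.filter (fun X : V => Q X = α ∧ ∃ Y, pol Q X Y = β) with hS1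
  rcases S1.eq_empty_or_nonempty with h0 | ⟨X0, hX0⟩
  · rw [h0]
    simp
  obtain ⟨hX01, Y0, hY0⟩ := (Finset.mem_filter.mp hX0).2
  have hsp := hspan hQ hV (x := X0) (y := Y0) (by rw [hY0]; exact hβ)
  choose a b hab using hsp
  have hb : ∀ X, Q X = α → X ≠ X0 → b X ≠ 0 := by
    intro X hX hne hb0
    apply hne
    have h1 := hab X
    rw [hb0, zero_smul, add_zero] at h1
    rw [h1, hQ.smul, hX01] at hX
    have h2 : a X * a X = 1 * 1 := by
      have : (a X * a X - 1) * α = 0 := by linear_combination hX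
      have h3 := (mul_eq_zero.mp this).resolve_right hα
      linear_combination h3
    have h3 := mul_self_inj' h2
    rw [h1, h3, one_smul]
  have h1 : (S1.erase X0).card ≤ Fintype.card F := by
    rw [← Finset.card_univ]
    apply Finset.card_le_card_of_injOn (fun X => a X / b X) (fun _ _ => Finset.mem_coe.mpr (Finset.mem_univ _))
    intro X hX X' hX' he
    have hX1 := Finset.mem_coe.mp hX
    have hX'1 := Finset.mem_coe.mp hX'
    obtain ⟨hne, hmem⟩ := Finset.mem_erase.mp hX1
    obtain ⟨hne', hmem'⟩ := Finset.mem_erase.mp hX'1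
    have hq1 := (Finset.mem_filter.mp hmem).2.1
    have hq2 := (Finset.mem_filter.mp hmem').2.1
    have hb1 := hb X hq1 hne
    have hb2 := hb X' hq2 hne'
    set c := a X / b X with hc
    have he' : a X' / b X' = c := he.symm
    have e1 : X = b X • (c • X0 + Y0) := by
      conv_lhs => rw [hab X]
      rw [smul_add, smul_smul, hc]
      congr 2
      field_simp
    have e2 : X' = b X' • (c • X0 + Y0) := by
      conv_lhs => rw [hab X']
      rw [smul_add, smul_smul, ← he']
      congr 2
      field_simp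
    have h3 : b X * b X * Q (c • X0 + Y0) = α := by
      rw [← hQ.smul, ← e1, hq1]
    have h4 : b X' * b X' * Q (c • X0 + Y0) = α := by
      rw [← hQ.smul, ← e2, hq2]
    have h5 : Q (c • X0 + Y0) ≠ 0 := by
      intro h0
      rw [h0, mul_zero] at h3
      exact hα h3.symm
    have h6 : b X * b X = b X' * b X' := mul_right_cancel₀ h5 (h3.trans h4.symm)
    have h7 := mul_self_inj' h6
    rw [e1, e2, h7]
  have h2 := Finset.card_erase_add_one hX0
  omega

/-- The pairs with given values. -/
lemma card_S (hV : finrank F V = 2) {α β γ : F} (hα : α ≠ 0) (hβ : β ≠ 0) :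
    (Finset.univ.filter (fun p : V × V => Q p.1 = α ∧ pol Q p.1 p.2 = β ∧ Q p.2 = γ)).card ≤ 2 * (Fintype.card F + 1) := by
  have h2 : (2 : F) = 0 := CharTwo.two_eq_zero
  have h := Finset.card_le_mul_card_image_of_maps_to
    (s := Finset.univ.filter (fun p : V × V => Q p.1 = α ∧ pol Q p.1 p.2 = β ∧ Q p.2 = γ))
    (t := Finset.univ.filter (fun X : V => Q X = α ∧ ∃ Y, pol Q X Y = β)) (f := Prod.fst)
    (by
      intro p hp
      obtain ⟨-, h1, h2, h3⟩ := Finset.mem_filter.mp hp
      exact Finset.mem_filter.mpr ⟨Finset.mem_univ _, h1, p.2, h2⟩) 2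
    (by
      intro X hX
      set T := (Finset.univ.filter (fun p : V × V => Q p.1 = α ∧ pol Q p.1 p.2 = β ∧ Q p.2 = γ)).filter (fun p => p.1 = X) with hT
      rcases T.eq_empty_or_nonempty with h0 | ⟨p1, hp1⟩
      · rw [h0]
        simp
      obtain ⟨hp1a, hp1b⟩ := Finset.mem_filter.mp hp1
      obtain ⟨-, h1, h3, h4⟩ := Finset.mem_filter.mp hp1a
      obtain ⟨X1, Y1⟩ := p1
      simp only at hp1b h1 h3 h4
      subst hp1b
      have hsub : T ⊆ {(X1, Y1), (X1, (β / α) • X1 + Y1)} := by
        intro p hp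
        obtain ⟨hpa, hpb⟩ := Finset.mem_filter.mp hp
        obtain ⟨-, h5, h6, h7⟩ := Finset.mem_filter.mp hpa
        obtain ⟨X2, Y2⟩ := p
        simp only at hpb h5 h6 h7
        subst hpb
        obtain ⟨a, b, hab⟩ := hspan hQ hV (x := X2) (y := Y1) (by rw [h3]; exact hβ) Y2
        have hb1 : b = 1 := by
          rw [hab, hQ.add_right, hQ.smul_right, hQ.smul_right, hQ.pol_self, h3] at h6
          have : (b - 1) * β = 0 := by linear_combination h6
          have h8 := (mul_eq_zero.mp this).resolve_right hβ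
          linear_combination h8
        subst hb1
        rw [one_smul] at hab
        rw [hab, hQ.add, hQ.smul, hQ.smul_left, h1, h3, h4] at h7
        have h9 : a * (a * α + β) = 0 := by
          linear_combination h7
        rcases mul_eq_zero.mp h9 with ha | ha
        · simp [hab, ha]
        · have ha2 : a = β / α := by
            field_simp
            linear_combination ha - β * h2
          simp [hab, ha2]
      exact (Finset.card_le_card hsub).trans Finset.card_le_two)
  exact h.trans (Nat.mul_le_mul_left _ (card_X hQ hV hα hβ))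

omit hQ in
lemma adapt (hQ : IsQ Q) (hne : ∃ x y, pol Q x y ≠ 0) : ∃ x y, Q x ≠ 0 ∧ pol Q x y ≠ 0 := by
  obtain ⟨x, y, hxy⟩ := hne
  by_cases hx : Q x = 0
  · by_cases hy : Q y = 0
    · refine ⟨x + y, y, ?_, ?_⟩
      · rw [hQ.add, hx, hy]
        simpa using hxy
      · rw [hQ.add_left, hQ.pol_self]
        simpa using hxy
    · exact ⟨y, x, hy, by rwa [pol_comm]⟩
  · exact ⟨x, y, hx, hxy⟩

/-- The bound in dimension two, up to the order of the group. -/
theorem base_bound (hV : finrank F V = 2) (hne : ∃ x y, pol Q x y ≠ 0) :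
    Nat.card (V ≃ₗ[F] V) ≤ 2 * (Fintype.card F + 1) * (orb Q).card := by
  have hfin : Finite (V ≃ₗ[F] V) := Finite.of_injective (fun g : V ≃ₗ[F] V => (g : V → V)) DFunLike.coe_injective
  let _ : Fintype (V ≃ₗ[F] V) := Fintype.ofFinite _
  rw [Nat.card_eq_fintype_card, ← Finset.card_univ]
  have h := Finset.card_le_mul_card_image (s := (Finset.univ : Finset (V ≃ₗ[F] V))) (f := fun g : V ≃ₗ[F] V => Q ∘ (g : V → V)) (2 * (Fintype.card F + 1)) (by
    intro a ha
    obtain ⟨g0, -, rfl⟩ := Finset.mem_image.mp ha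
    have hQ0 : IsQ (Q ∘ g0) := hQ.comp g0.toLinearMap
    have hne0 : ∃ x y, pol (Q ∘ g0) x y ≠ 0 := by
      obtain ⟨x, y, hxy⟩ := hne
      refine ⟨g0.symm x, g0.symm y, ?_⟩
      rw [pol_comp']
      simpa using hxy
    obtain ⟨x0, y0, h1, h2⟩ := adapt hQ0 hne0
    refine le_trans ?_ (card_S hQ hV (γ := (Q ∘ g0) y0) h1 h2)
    apply Finset.card_le_card_of_injOn (fun g => (g x0, g y0))
    · intro g hg
      have hg1 := (Finset.mem_filter.mp (Finset.mem_coe.mp hg)).2
      simp only [Finset.coe_filter, Set.mem_ofPred_eq, Finset.mem_univ, true_and]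
      rw [← hg1, pol_comp']
      simp
    · intro g hg g' hg' he
      have h3 := congrArg Prod.fst he
      have h4 := congrArg Prod.snd he
      simp only at h3 h4
      apply LinearEquiv.ext
      intro v
      obtain ⟨a, b, hab⟩ := hspan hQ0 hV h2 v
      rw [hab, map_add, map_add, map_smul, map_smul, map_smul, map_smul, h3, h4])
  refine h.trans (Nat.mul_le_mul_left _ (Finset.card_le_card ?_))
  intro a ha
  obtain ⟨g0, -, rfl⟩ := Finset.mem_image.mp ha
  exact mem_orb.mpr ⟨g0, rfl⟩

end Base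

/-- The order of the group in dimension two. -/
lemma card_gl2 : Nat.card ((Fin 2 → F) ≃ₗ[F] (Fin 2 → F)) =
    (Fintype.card F ^ 2 - 1) * (Fintype.card F ^ 2 - Fintype.card F) := by
  rw [← Nat.card_congr (Cfsg.Agent.Lib.Classical.MatrixBridge.glToLin (ι := Fin 2) (F := F)).toEquiv, Matrix.card_GL_field,
    Fin.prod_univ_two]
  simp

/-- **The orbit bound for quadratic forms.** -/
theorem orbit_main (n : ℕ) (hn : 2 ≤ n) : ∀ (V : Type u) [AddCommGroup V] [Module F V] [Fintype V],
    finrank F V = n → ∀ Q : V → F, IsQ Q → (∃ x y, pol Q x y ≠ 0) →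
    (Fintype.card F ^ n - 1) * (Fintype.card F ^ n - Fintype.card F) ≤ 2 * (Fintype.card F + 1) * (orb Q).card := by
  induction n, hn using Nat.le_induction with
  | base =>
    intro V _ _ _ hV Q hQ hne
    have hfr : finrank F V = finrank F (Fin 2 → F) := by
      rw [hV, Module.finrank_fin_fun]
    let Θ : V ≃ₗ[F] (Fin 2 → F) := LinearEquiv.ofFinrankEq _ _ hfr
    have hQ' : IsQ (Q ∘ Θ.symm) := hQ.comp Θ.symm.toLinearMap
    have hne' : ∃ x y, pol (Q ∘ Θ.symm) x y ≠ 0 := by
      obtain ⟨x, y, hxy⟩ := hne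
      refine ⟨Θ x, Θ y, ?_⟩
      rw [pol_comp']
      simpa using hxy
    have h1 := base_bound hQ' (Module.finrank_fin_fun F) hne'
    rw [card_gl2] at h1
    have h2 := card_orb_congr Θ (Q ∘ Θ.symm)
    have h3 : (Q ∘ Θ.symm) ∘ Θ = Q := by
      ext x
      simp
    rw [h3] at h2
    rw [h2]
    exact h1
  | succ n hn IH =>
    intro V _ _ _ hV Q hQ hne
    have hfr : finrank F V = finrank F ((Fin n → F) × F) := by
      rw [hV, Module.finrank_prod, Module.finrank_fin_fun, Module.finrank_self]
    let Θ : V ≃ₗ[F] ((Fin n → F) × F) := LinearEquiv.ofFinrankEq _ _ hfr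
    have hQ' : IsQ (Q ∘ Θ.symm) := hQ.comp Θ.symm.toLinearMap
    have hne' : ∃ x y, pol (Q ∘ Θ.symm) x y ≠ 0 := by
      obtain ⟨x, y, hxy⟩ := hne
      refine ⟨Θ x, Θ y, ?_⟩
      rw [pol_comp']
      simpa using hxy
    have h1 := step (V' := Fin n → F) (Module.finrank_fin_fun F) hn
      (fun f hf hne => IH _ (Module.finrank_fin_fun F) f hf hne) hQ' hne'
    have h2 := card_orb_congr Θ (Q ∘ Θ.symm)
    have h3 : (Q ∘ Θ.symm) ∘ Θ = Q := by
      ext x
      simp
    rw [h3] at h2
    rw [h2]
    exact h1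

end Cfsg.Agent.Lib.SpDeg.OrbitMain
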